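import Mathlib

/-! # Arithmetic of the isolated torus orders of `E_8`

For the prime graph of `PSL(2, p^k)`, `k` odd: the numbers `Φ_15, Φ_20, Φ_24, Φ_30` at a prime
power `x` cannot be a power of `p` for one index while all odd primes of `p^k + 1` divide the
value at another index.  Resultants of `Φ_a` and `Φ_b + 1` are primes `ℓ`; the equations
`Φ_b(x) + 1 = 2 ℓ^M` are solved by a `t`-adic square root (`x` is a prime power). -/

namespace Cfsg.Agent.H824.EEightNT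

def c15 (x : ℤ) : ℤ := x ^ 8 - x ^ 7 + x ^ 5 - x ^ 4 + x ^ 3 - x + 1
def c20 (x : ℤ) : ℤ := x ^ 8 - x ^ 6 + x ^ 4 - x ^ 2 + 1
def c24 (x : ℤ) : ℤ := x ^ 8 - x ^ 4 + 1
def c30 (x : ℤ) : ℤ := x ^ 8 + x ^ 7 - x ^ 5 - x ^ 4 - x ^ 3 + x + 1

theorem c15_neg (x : ℤ) : c15 (-x) = c30 x := by unfold c15 c30; ring
theorem c30_neg (x : ℤ) : c30 (-x) = c15 x := by unfold c15 c30; ring
theorem c20_neg (x : ℤ) : c20 (-x) = c20 x := by unfold c20; ring
theorem c24_neg (x : ℤ) : c24 (-x) = c24 x := by unfold c24; ring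

/-! ### Lifting the exponent -/

theorem lte {D P n : ℕ} (hP : 2 ≤ P) (hn : n ≠ 0) (hD : D ∣ P ^ n - 1)
    (hr : ∀ r : ℕ, r.Prime → r ∣ D → r ∣ P - 1) (h2 : 2 ∣ D → 4 ∣ P - 1) :
    D ∣ (P - 1) * n := by
  have hPn : 1 < P ^ n := Nat.one_lt_pow hn (by omega)
  have hD0 : D ≠ 0 := by
    rintro rfl
    rw [zero_dvd_iff] at hD
    omega
  have hP1 : P - 1 ≠ 0 := by omega
  rw [← Nat.factorization_prime_le_iff_dvd hD0 (mul_ne_zero hP1 hn)]
  intro r hrp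
  by_cases hrD : r ∣ D
  · have h1 : r ∣ P - 1 := hr r hrp hrD
    have h3 : D.factorization r ≤ (P ^ n - 1).factorization r :=
      (Nat.factorization_prime_le_iff_dvd hD0 (by omega)).mpr hD r hrp
    refine h3.trans ?_
    have := Fact.mk hrp
    rw [Nat.factorization_mul hP1 hn, Finsupp.add_apply, Nat.factorization_def _ hrp,
      Nat.factorization_def _ hrp, Nat.factorization_def _ hrp]
    rcases hrp.eq_two_or_odd' with rfl | hodd
    · have h4 : 4 ∣ P - 1 := h2 hrD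
      have h5 : (4 : ℤ) ∣ (P : ℤ) - 1 := by
        obtain ⟨c, hc⟩ := h4
        exact ⟨c, by omega⟩
      have h6 : ¬ (2 : ℤ) ∣ (P : ℤ) := by
        obtain ⟨c, hc⟩ := h4
        omega
      have h7 := Int.two_pow_sub_pow' n h5 h6
      have e1 : ((P : ℤ) ^ n - 1 ^ n) = ((P ^ n - 1 : ℕ) : ℤ) := by
        push_cast [Nat.cast_sub hPn.le]; ring
      have e2 : ((P : ℤ) - 1) = ((P - 1 : ℕ) : ℤ) := by
        push_cast [Nat.cast_sub (by omega : 1 ≤ P)]; ring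
      rw [e1, e2] at h7
      have e3 : (2 : ℤ) = ((2 : ℕ) : ℤ) := rfl
      rw [e3, Int.natCast_emultiplicity, Int.natCast_emultiplicity, Int.natCast_emultiplicity,
        ← padicValNat_eq_emultiplicity (by omega), ← padicValNat_eq_emultiplicity hP1,
        ← padicValNat_eq_emultiplicity hn] at h7
      exact_mod_cast h7.le
    · have h6 : ¬ r ∣ P := by
        intro h
        have : r ∣ 1 := by
          have := Nat.dvd_sub h h1
          rwa [show P - (P - 1) = 1 by omega] at this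
        exact hrp.one_lt.ne' (Nat.dvd_one.mp this)
      have h7 := padicValNat.pow_sub_pow (p := r) (x := P) (y := 1) hodd (by omega)
        (by simpa using h1) h6 hn
      rw [one_pow] at h7
      exact h7.le
  · rw [Nat.factorization_eq_zero_of_not_dvd hrD]
    exact Nat.zero_le _

/-- size: `n (P - 1)` is at most `2 sqrt (P ^ n)` for `n ≥ 2`, `P ≥ 5` -/
theorem size {P n : ℕ} (hP : 5 ≤ P) (hn : 2 ≤ n) : ((P - 1) * n) ^ 2 ≤ 4 * P ^ n := by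
  induction n, hn using Nat.le_induction with
  | base =>
    have : (P - 1) * 2 ≤ P * 2 := Nat.mul_le_mul_right _ (by omega)
    calc ((P - 1) * 2) ^ 2 ≤ (P * 2) ^ 2 := Nat.pow_le_pow_left this 2
      _ = 4 * P ^ 2 := by ring
  | succ n hn ih =>
    have h1 : 4 * ((n + 1) ^ 2) ≤ 9 * n ^ 2 := by nlinarith
    have h2 : 4 * (((P - 1) * (n + 1)) ^ 2) ≤ 9 * ((P - 1) * n) ^ 2 := by
      have := Nat.mul_le_mul_left ((P - 1) ^ 2) h1
      nlinarith [this]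
    have h3 : 4 * (4 * P ^ (n + 1)) ≥ 9 * (4 * P ^ n) := by
      rw [pow_succ]
      have : 0 < P ^ n := Nat.pow_pos (by omega)
      nlinarith
    omega

/-- strict Bernoulli -/
theorem bern {P n : ℕ} (hP : 5 ≤ P) (hn : 2 ≤ n) : (P - 1) * n < P ^ n - 1 := by
  induction n, hn using Nat.le_induction with
  | base =>
    obtain ⟨k, rfl⟩ : ∃ k, P = k + 5 := ⟨P - 5, by omega⟩
    have : (k + 5) ^ 2 = k ^ 2 + 10 * k + 25 := by ring
    rw [this]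
    have : (k + 5 - 1) * 2 = 2 * k + 8 := by omega
    rw [this]
    have : 0 ≤ k ^ 2 := Nat.zero_le _
    omega
  | succ n hn ih =>
    have h0 : 0 < P ^ n := Nat.pow_pos (by omega)
    have h1 : P ^ (n + 1) = P ^ n * (P - 1) + P ^ n := by
      rw [pow_succ]
      obtain ⟨k, rfl⟩ : ∃ k, P = k + 1 := ⟨P - 1, by omega⟩
      simp only [Nat.add_sub_cancel]
      ring
    have h2 : P - 1 ≤ P ^ n * (P - 1) := Nat.le_mul_of_pos_left _ h0
    have h3 : (P - 1) * (n + 1) = (P - 1) * n + (P - 1) := by ring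
    omega

/-! ### `x` even -/

theorem even_x {l c u f n : ℕ} (hl : 32 ≤ l) (hc : c ≤ 5) (h4 : 2 ≤ c) (hu : Odd u)
    (hlu : l ^ 2 - 1 = 2 ^ c * u) (hn : n ≠ 0) (hf : 9 ≤ f)
    (h : 2 ^ (f - 1) ∣ (l ^ 2) ^ n - 1) (hb : (l ^ 2) ^ n ≤ 2 * 2 ^ (8 * f)) : False := by
  have h4' : 4 ∣ l ^ 2 - 1 := by
    rw [hlu]
    exact dvd_mul_of_dvd_left (pow_dvd_pow 2 h4) _
  have hd : 2 ^ (f - 1) ∣ (l ^ 2 - 1) * n := by
    refine lte (by nlinarith) hn h ?_ fun _ => h4'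
    intro r hr hrd
    have : r = 2 := (Nat.prime_dvd_prime_iff_eq hr Nat.prime_two).mp (hr.dvd_of_dvd_pow hrd)
    subst this
    exact (by norm_num : 2 ∣ 4).trans h4'
  have hd2 : 2 ^ (f - 6) ∣ n := by
    rw [hlu] at hd
    have h5 : 2 ^ (f - 6) * 2 ^ 5 ∣ (u * n) * 2 ^ 5 := by
      have e1 : 2 ^ (f - 6) * 2 ^ 5 = 2 ^ (f - 1) := by
        rw [← pow_add]; congr 1; omega
      rw [e1]
      refine hd.trans ?_
      have : (u * n) * 2 ^ 5 = (2 ^ c * u * n) * 2 ^ (5 - c) := by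
        have e2 : 2 ^ 5 = 2 ^ c * 2 ^ (5 - c) := by
          rw [← pow_add]; congr 1; omega
        rw [e2]; ring
      rw [this]
      exact dvd_mul_right _ _
    have h6 : 2 ^ (f - 6) ∣ u * n := Nat.dvd_of_mul_dvd_mul_right (by norm_num) h5
    exact (Nat.Coprime.pow_left _ (Nat.coprime_two_left.mpr hu)).dvd_of_dvd_mul_left h6
  have hge : 2 ^ (f - 6) ≤ n := Nat.le_of_dvd (Nat.pos_of_ne_zero hn) hd2
  have h7 : (2 ^ 10) ^ (2 ^ (f - 6)) ≤ (l ^ 2) ^ n := by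
    calc (2 ^ 10) ^ (2 ^ (f - 6)) ≤ (l ^ 2) ^ (2 ^ (f - 6)) := by
          refine Nat.pow_le_pow_left ?_ _
          nlinarith
      _ ≤ (l ^ 2) ^ n := Nat.pow_le_pow_right (by positivity) hge
  have h8 : 8 * f + 1 < 10 * 2 ^ (f - 6) := by
    obtain ⟨g, rfl⟩ : ∃ g, f = g + 9 := ⟨f - 9, by omega⟩
    rw [show g + 9 - 6 = g + 3 by omega, pow_add]
    have : g < 2 ^ g := Nat.lt_two_pow_self
    omega
  have h9 : 2 * 2 ^ (8 * f) < (2 ^ 10) ^ (2 ^ (f - 6)) := by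
    rw [← pow_mul, ← pow_succ']
    exact Nat.pow_lt_pow_right (by norm_num) h8
  omega

/-! ### `x` odd: separation of two factors -/

theorem sep {t e : ℕ} (ht : t.Prime) {A B : ℤ} (h : (t : ℤ) ^ e ∣ A * B)
    (hAB : ¬ ((t : ℤ) ∣ A ∧ (t : ℤ) ∣ B)) : (t : ℤ) ^ e ∣ A ∨ (t : ℤ) ^ e ∣ B := by
  have hp : Prime (t : ℤ) := Nat.prime_iff_prime_int.mp ht
  by_cases hA : (t : ℤ) ∣ A
  · left
    have hB : ¬ (t : ℤ) ∣ B := fun hB => hAB ⟨hA, hB⟩
    have hc : IsCoprime ((t : ℤ) ^ e) B :=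
      IsCoprime.pow_left ((Prime.coprime_iff_not_dvd hp).mpr hB)
    exact hc.dvd_of_dvd_mul_right h
  · right
    have hc : IsCoprime ((t : ℤ) ^ e) A :=
      IsCoprime.pow_left ((Prime.coprime_iff_not_dvd hp).mpr hA)
    exact hc.dvd_of_dvd_mul_left h

theorem abs_eq {x : ℤ} {t f : ℕ} (hx : x.natAbs = t ^ f) : |x| = (t : ℤ) ^ f := by
  rw [Int.abs_eq_natAbs, hx]; push_cast; rfl

theorem dvd_pow_of {x : ℤ} {t f : ℕ} (hx : x.natAbs = t ^ f) (n : ℕ) :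
    ((t : ℤ) ^ (f * n)) ∣ x ^ n := by
  rw [pow_mul]
  refine pow_dvd_pow_of_dvd ?_ n
  rw [← abs_eq hx]
  exact abs_dvd_self x

theorem tdvd {x : ℤ} {t f : ℕ} (hf : f ≠ 0) (hx : x.natAbs = t ^ f) : (t : ℤ) ∣ x := by
  rw [Int.natCast_dvd, hx]
  exact dvd_pow_self t hf

theorem not_dvd_two_pow {t : ℕ} (ht : t.Prime) (hodd : Odd t) (k : ℕ) :
    ¬ (t : ℤ) ∣ 2 ^ k := by
  intro h
  have h2 : t ∣ 2 ^ k := by exact_mod_cast h
  have h3 : t ∣ 2 := ht.dvd_of_dvd_pow h2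
  have h4 : t = 2 := (Nat.prime_dvd_prime_iff_eq ht Nat.prime_two).mp h3
  subst h4
  exact absurd hodd (by decide)

theorem odd24 {x y : ℤ} {t f : ℕ} (ht : t.Prime) (hodd : Odd t)
    (hx : x.natAbs = t ^ f) (hy : 0 ≤ y) (hb : 2 ≤ |x|) (h : 2 * y ^ 2 = c24 x + 1) : False := by
  unfold c24 at h
  have hx2 : 4 ≤ x ^ 2 := by
    have := sq_abs x
    nlinarith
  have hx4 : 16 ≤ x ^ 4 := by nlinarith [sq_nonneg (x ^ 2)]
  set u := x ^ 4 with hu
  have h8 : x ^ 8 = u ^ 2 := by rw [hu]; ring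
  rw [h8] at h
  have hy2 : 2 ≤ y := by nlinarith
  have hyu : y < u - 1 := by nlinarith
  have hd : (t : ℤ) ^ (f * 4) ∣ (y - 1) * (y + 1) := by
    have h1 : (t : ℤ) ^ (f * 4) ∣ 2 * ((y - 1) * (y + 1)) := by
      have : 2 * ((y - 1) * (y + 1)) = u * (u - 1) := by linarith
      rw [this]
      exact dvd_mul_of_dvd_left (dvd_pow_of hx 4) _
    have hc : IsCoprime ((t : ℤ) ^ (f * 4)) 2 := by
      refine IsCoprime.pow_left ((Prime.coprime_iff_not_dvd (Nat.prime_iff_prime_int.mp ht)).mpr ?_)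
      simpa using not_dvd_two_pow ht hodd 1
    exact hc.dvd_of_dvd_mul_left h1
  have hXu : (t : ℤ) ^ (f * 4) = u := by
    rw [pow_mul, ← abs_eq hx, hu]
    exact Even.pow_abs (by decide) x
  rw [hXu] at hd
  have hsep := sep ht (e := f * 4) (A := y - 1) (B := y + 1) (by rw [hXu]; exact hd) (by
    rintro ⟨h1, h2⟩
    have : (t : ℤ) ∣ 2 := by
      have := dvd_sub h2 h1
      rwa [show y + 1 - (y - 1) = 2 by ring] at this
    exact not_dvd_two_pow ht hodd 1 (by simpa using this))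
  rw [hXu] at hsep
  rcases hsep with h1 | h1
  · have := Int.le_of_dvd (by linarith) h1
    linarith
  · have := Int.le_of_dvd (by linarith) h1
    linarith

theorem odd20 {x y : ℤ} {t f : ℕ} (ht : t.Prime) (hodd : Odd t) (hf : f ≠ 0)
    (hx : x.natAbs = t ^ f) (hy : 0 ≤ y) (hb : 7 ≤ |x|) (h : 2 * y ^ 2 = c20 x + 1) : False := by
  unfold c20 at h
  have hx2 : 49 ≤ x ^ 2 := by
    have := sq_abs x
    nlinarith
  set u := x ^ 2 with hu
  have h8 : x ^ 8 = u ^ 4 := by rw [hu]; ring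
  have h6 : x ^ 6 = u ^ 3 := by rw [hu]; ring
  have h4 : x ^ 4 = u ^ 2 := by rw [hu]; ring
  rw [h8, h6, h4] at h
  have hyu : y < u ^ 2 := by
    by_contra hc
    push Not at hc
    have h1 : (u ^ 2) ^ 2 ≤ y ^ 2 := by
      have : 0 ≤ u ^ 2 := sq_nonneg u
      nlinarith
    nlinarith [sq_nonneg u, mul_nonneg (sq_nonneg u) (by linarith : 0 ≤ u)]
  set T : ℤ := 32 - 8 * u + 7 * u ^ 2 with hT
  have hid : (32 * y - T) * (32 * y + T) = u ^ 3 * (463 * u - 400) := by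
    have : (32 * y - T) * (32 * y + T) = 512 * (2 * y ^ 2) - T ^ 2 := by ring
    rw [this, h, hT]; ring
  have hXu : (t : ℤ) ^ (f * 6) = u ^ 3 := by
    rw [pow_mul, ← abs_eq hx, hu, ← pow_mul]
    exact Even.pow_abs (by decide) x
  have hsep := sep ht (e := f * 6) (A := 32 * y - T) (B := 32 * y + T)
    (by rw [hXu, hid]; exact dvd_mul_right _ _) (by
    rintro ⟨h1, h2⟩
    have h3 : (t : ℤ) ∣ 2 * T := by
      have := dvd_sub h2 h1
      rwa [show 32 * y + T - (32 * y - T) = 2 * T by ring] at this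
    have h5 : (t : ℤ) ∣ u := dvd_pow (tdvd hf hx) (by norm_num)
    have h7 : (t : ℤ) ∣ 2 ^ 6 := by
      have h9 : (t : ℤ) ∣ 2 * T - u * (-16 + 14 * u) := dvd_sub h3 (dvd_mul_of_dvd_left h5 _)
      have : 2 * T - u * (-16 + 14 * u) = 2 ^ 6 := by rw [hT]; ring
      rwa [this] at h9
    exact not_dvd_two_pow ht hodd 6 h7)
  rw [hXu] at hsep
  have hT0 : 0 < T := by rw [hT]; nlinarith
  have hlt : 32 * y + T < u ^ 3 := by
    have : T ≤ 7 * u ^ 2 := by rw [hT]; linarith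
    nlinarith [sq_nonneg u, mul_nonneg (sq_nonneg u) (by linarith : 0 ≤ u - 49)]
  rcases hsep with h1 | h1
  · have h2 : 32 * y - T = 0 := by
      refine Int.eq_zero_of_abs_lt_dvd h1 ?_
      rw [abs_lt]
      constructor <;> linarith
    rw [h2, zero_mul] at hid
    have h3 : 463 * u - 400 = 0 := by
      have : u ^ 3 ≠ 0 := by positivity
      rcases mul_eq_zero.mp hid.symm with h | h
      · exact absurd h this
      · exact h
    linarith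
  · have := Int.le_of_dvd (by linarith) h1
    linarith

theorem fin15 {x : ℤ} (hA : 2500 ≤ |x|)
    (h : 1762304 - 295808 * x - 1711264 * x ^ 2 + 1945831 * x ^ 3 = 0) : False := by
  have b1 : -|x| ≤ x ∧ x ≤ |x| := abs_le.mp le_rfl
  have k1 : |1945831 * x ^ 3| ≤ 1762304 + 295808 * |x| + 1711264 * |x| ^ 2 := by
    have : 1945831 * x ^ 3 = -1762304 + 295808 * x + 1711264 * x ^ 2 := by linarith only [h]
    rw [this, ← sq_abs x, abs_le]
    have := sq_nonneg |x|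
    constructor
    · linarith only [b1.1, b1.2, this]
    · linarith only [b1.1, b1.2, this]
  rw [abs_mul, abs_pow, abs_of_pos (by norm_num : (0 : ℤ) < 1945831)] at k1
  have k2 : 2500 * |x| ^ 2 ≤ |x| ^ 3 := by
    have := mul_le_mul_of_nonneg_right hA (sq_nonneg |x|)
    linarith only [this, (by ring : |x| * |x| ^ 2 = |x| ^ 3)]
  have k3 : 2500 * |x| ≤ |x| ^ 2 := by
    have := mul_le_mul_of_nonneg_right hA (abs_nonneg x)
    linarith only [this, (by ring : |x| * |x| = |x| ^ 2)]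
  linarith only [k1, k2, k3, hA]

theorem pows {A : ℤ} (hb : 2500 ≤ A) (n : ℕ) : 0 ≤ A ^ n ∧ 2500 * A ^ n ≤ A ^ (n + 1) := by
  have h0 : 0 ≤ A ^ n := pow_nonneg (by linarith only [hb]) n
  refine ⟨h0, ?_⟩
  rw [pow_succ']
  exact mul_le_mul_of_nonneg_right hb h0

theorem odd15 {x y : ℤ} {t f : ℕ} (ht : t.Prime) (hodd : Odd t) (hf : f ≠ 0)
    (hx : x.natAbs = t ^ f) (hy : 0 ≤ y) (hb : 2500 ≤ |x|) (h : 2 * y ^ 2 = c15 x + 1) :
    False := by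
  unfold c15 at h
  set A : ℤ := |x| with hA
  have e2 : x ^ 2 = A ^ 2 := (sq_abs x).symm
  have e4 : x ^ 4 = A ^ 4 := by
    rw [show x ^ 4 = (x ^ 2) ^ 2 by ring, e2]; ring
  have e8 : x ^ 8 = A ^ 8 := by
    rw [show x ^ 8 = (x ^ 2) ^ 4 by ring, e2]; ring
  have b1 : -A ≤ x ∧ x ≤ A := abs_le.mp le_rfl
  have b3 : -A ^ 3 ≤ x ^ 3 ∧ x ^ 3 ≤ A ^ 3 := by
    have := abs_le.mp (le_of_eq (abs_pow x 3))
    exact this
  have b5 : -A ^ 5 ≤ x ^ 5 ∧ x ^ 5 ≤ A ^ 5 := abs_le.mp (le_of_eq (abs_pow x 5))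
  have b7 : -A ^ 7 ≤ x ^ 7 ∧ x ^ 7 ≤ A ^ 7 := abs_le.mp (le_of_eq (abs_pow x 7))
  have g1 := pows hb 1
  have g2 := pows hb 2
  have g3 := pows hb 3
  have g4 := pows hb 4
  have g5 := pows hb 5
  have g6 := pows hb 6
  have g7 := pows hb 7
  norm_num at g1 g2 g3 g4 g5 g6 g7
  have hyu : y ≤ A ^ 4 := by
    by_contra hc
    push Not at hc
    have h1 : (A ^ 4) ^ 2 < y ^ 2 := pow_lt_pow_left₀ hc g4.1 (by norm_num)
    have h2 : (A ^ 4) ^ 2 = A ^ 8 := by ring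
    rw [h2] at h1
    rw [e8, e4] at h
    linarith only [b1.1, b1.2, b3.1, b3.2, b5.1, b5.2, b7.1, b7.2, h, h1, hb,
      g1.2, g2.2, g3.2, g4.2, g5.2, g6.2, g7.2]
  set T : ℤ := 2048 - 512 * x - 64 * x ^ 2 + 496 * x ^ 3 - 389 * x ^ 4 with hT
  have hid : (2048 * y - T) * (2048 * y + T) =
      x ^ 5 * (1762304 - 295808 * x - 1711264 * x ^ 2 + 1945831 * x ^ 3) := by
    have : (2048 * y - T) * (2048 * y + T) = 2097152 * (2 * y ^ 2) - T ^ 2 := by ring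
    rw [this, h, hT]; ring
  have hXu : (t : ℤ) ^ (f * 5) = A ^ 5 := by
    rw [pow_mul, ← abs_eq hx]
  have hsep := sep ht (e := f * 5) (A := 2048 * y - T) (B := 2048 * y + T)
    (by rw [hid]; exact dvd_mul_of_dvd_left (dvd_pow_of hx 5) _) (by
    rintro ⟨h1, h2⟩
    have h3 : (t : ℤ) ∣ 2 * T := by
      have := dvd_sub h2 h1
      rwa [show 2048 * y + T - (2048 * y - T) = 2 * T by ring] at this
    have h5 : (t : ℤ) ∣ x := tdvd hf hx
    have h7 : (t : ℤ) ∣ 2 ^ 12 := by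
      have h9 : (t : ℤ) ∣ 2 * T - x * (-1024 - 128 * x + 992 * x ^ 2 - 778 * x ^ 3) :=
        dvd_sub h3 (dvd_mul_of_dvd_left h5 _)
      have : 2 * T - x * (-1024 - 128 * x + 992 * x ^ 2 - 778 * x ^ 3) = 2 ^ 12 := by
        rw [hT]; ring
      rwa [this] at h9
    exact not_dvd_two_pow ht hodd 12 h7)
  rw [hXu] at hsep
  have hTb : |T| < 400 * A ^ 4 := by
    rw [abs_lt, hT, e2, e4]
    constructor <;> linarith only [b1.1, b1.2, b3.1, b3.2, g1.2, g2.2, g3.2, hb]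
  obtain ⟨hT1, hT2⟩ := abs_lt.mp hTb
  rcases hsep with h1 | h1
  · have h2 : 2048 * y - T = 0 := by
      refine Int.eq_zero_of_abs_lt_dvd h1 ?_
      rw [abs_lt]
      constructor <;> linarith only [hT1, hT2, hy, hyu, g4.2, g3.2, g4.1]
    rw [h2, zero_mul] at hid
    have hx5 : x ^ 5 ≠ 0 := by
      have : x ≠ 0 := by
        rintro rfl
        simp [hA] at hb
      exact pow_ne_zero _ this
    rcases mul_eq_zero.mp hid.symm with h | h
    · exact hx5 h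
    · exact fin15 hb h
  · have h2 : 2048 * y + T = 0 := by
      refine Int.eq_zero_of_abs_lt_dvd h1 ?_
      rw [abs_lt]
      constructor <;> linarith only [hT1, hT2, hy, hyu, g4.2, g3.2, g4.1]
    rw [h2, mul_zero] at hid
    have hx5 : x ^ 5 ≠ 0 := by
      have : x ≠ 0 := by
        rintro rfl
        simp [hA] at hb
      exact pow_ne_zero _ this
    rcases mul_eq_zero.mp hid.symm with h | h
    · exact hx5 h
    · exact fin15 hb h

/-! ### Small `x` -/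

def chk (c : ℤ → ℤ) (m : ℤ) (ex : List ℤ) : Bool :=
  (List.range 2500).all fun X =>
    (decide ((c X + 1) % m ≠ 0) || ex.contains (X : ℤ)) &&
    (decide ((c (-X) + 1) % m ≠ 0) || ex.contains (-X : ℤ))

theorem chk24 : chk c24 (211 ^ 2) [] = true := by decide +kernel
theorem chk20 : chk c20 (271 ^ 2) [] = true := by decide +kernel
theorem chk15 : chk c15 (5581 ^ 2) [] = true := by decide +kernel
theorem chk15' : chk c15 (41 ^ 2) [-935, 746, 2427] = true := by decide +kernel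

theorem chk_spec {c : ℤ → ℤ} {m : ℤ} {ex : List ℤ} (h : chk c m ex = true) {x : ℤ}
    (hx : |x| < 2500) (hd : m ∣ c x + 1) : x ∈ ex := by
  unfold chk at h
  rw [List.all_eq_true] at h
  have h1 := h x.natAbs (by
    rw [List.mem_range]
    rw [Int.abs_eq_natAbs] at hx
    exact_mod_cast hx)
  simp only [Bool.and_eq_true, Bool.or_eq_true, decide_eq_true_eq, List.contains_iff_mem] at h1
  have hd' : (c x + 1) % m = 0 := Int.emod_eq_zero_of_dvd hd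
  rcases Int.natAbs_eq x with h2 | h2
  · rw [← h2] at h1
    rcases h1.1 with h | h
    · exact absurd hd' h
    · exact h
  · rw [← h2] at h1
    rcases h1.2 with h | h
    · exact absurd hd' h
    · exact h

/-! ### The four equations `Φ_b(x) + 1 = 2 ℓ^M` -/

theorem solve {c : ℤ → ℤ} {l e u : ℕ} (hl : 32 ≤ l) (he : e ≤ 5) (he2 : 2 ≤ e) (hu : Odd u)
    (hlu : l ^ 2 - 1 = 2 ^ e * u)
    (hsmall : ∀ x : ℤ, |x| < 2500 → ∀ n, n ≠ 0 → c x + 1 ≠ 2 * (l : ℤ) ^ (2 * n))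
    (hodd : ∀ {x y : ℤ} {t f : ℕ}, t.Prime → Odd t → f ≠ 0 → x.natAbs = t ^ f → 0 ≤ y →
      2500 ≤ |x| → 2 * y ^ 2 = c x + 1 → False)
    (hdvd : ∀ x : ℤ, x ∣ c x - 1) (hle : ∀ x : ℤ, 2500 ≤ |x| → c x + 1 ≤ 4 * |x| ^ 8)
    {x : ℤ} {t f n : ℕ} (ht : t.Prime) (hf : f ≠ 0) (hx : x.natAbs = t ^ f) (hn : n ≠ 0)
    (h : c x + 1 = 2 * (l : ℤ) ^ (2 * n)) : False := by
  by_cases hlt : |x| < 2500
  · exact hsmall x hlt n hn h
  push Not at hlt
  rcases ht.eq_two_or_odd' with rfl | ho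
  · have hf9 : 9 ≤ f := by
      by_contra hc
      have h1 : f ≤ 8 := by omega
      have h2 : (2 : ℤ) ^ f ≤ 2 ^ 8 := pow_le_pow_right₀ (by norm_num) h1
      rw [abs_eq hx] at hlt
      have h3 : ((2 : ℕ) : ℤ) ^ f = 2 ^ f := by norm_num
      rw [h3] at hlt
      norm_num at h2
      linarith
    have hl1 : 1 ≤ (l ^ 2) ^ n := Nat.one_le_pow _ _ (by nlinarith)
    refine even_x hl he he2 hu hlu hn hf9 ?_ ?_
    · have h1 : x ∣ 2 * ((l : ℤ) ^ (2 * n) - 1) := by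
        have := hdvd x
        rwa [show c x - 1 = 2 * ((l : ℤ) ^ (2 * n) - 1) by linarith] at this
      have h2 : ((2 ^ f : ℕ) : ℤ) ∣ 2 * ((l : ℤ) ^ (2 * n) - 1) := by
        rw [← hx]
        exact Int.natAbs_dvd.mpr h1
      have h3 : ((2 * ((l ^ 2) ^ n - 1) : ℕ) : ℤ) = 2 * ((l : ℤ) ^ (2 * n) - 1) := by
        push_cast [Nat.cast_sub hl1]
        rw [pow_mul]
      rw [← h3, Int.natCast_dvd_natCast] at h2
      have h4 : 2 ^ f = 2 * 2 ^ (f - 1) := by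
        rw [← pow_succ']; congr 1; omega
      rw [h4] at h2
      exact Nat.dvd_of_mul_dvd_mul_left (by norm_num) h2
    · have h1 := hle x hlt
      rw [h, abs_eq hx] at h1
      have h2 : (((l ^ 2) ^ n : ℕ) : ℤ) ≤ ((2 * 2 ^ (8 * f) : ℕ) : ℤ) := by
        push_cast
        rw [← pow_mul]
        have : ((2 : ℕ) : ℤ) ^ f = 2 ^ f := by norm_num
        rw [this, ← pow_mul, mul_comm f 8] at h1
        linarith
      exact_mod_cast h2
  · refine hodd (y := (l : ℤ) ^ n) ht ho hf hx (by positivity) hlt ?_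
    rw [h, mul_comm 2 n, pow_mul]

theorem small_of {c : ℤ → ℤ} {l : ℕ} (h : chk c ((l : ℤ) ^ 2) [] = true) (x : ℤ)
    (hx : |x| < 2500) (n : ℕ) (hn : n ≠ 0) : c x + 1 ≠ 2 * (l : ℤ) ^ (2 * n) := by
  intro he
  have h1 : ((l : ℤ) ^ 2) ∣ c x + 1 := by
    rw [he]
    exact dvd_mul_of_dvd_right (pow_dvd_pow _ (by omega)) _
  exact absurd (chk_spec h hx h1) (by simp)

theorem small41 (x : ℤ) (hx : |x| < 2500) (n : ℕ) (hn : n ≠ 0) :
    c15 x + 1 ≠ 2 * ((41 : ℕ) : ℤ) ^ (2 * n) := by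
  intro he
  have h1 : ((41 : ℤ) ^ 2) ∣ c15 x + 1 := by
    rw [he]
    exact dvd_mul_of_dvd_right (pow_dvd_pow _ (by omega)) _
  have h2 := chk_spec chk15' hx h1
  rcases Nat.lt_or_ge n 2 with h3 | h3
  · have : n = 1 := by omega
    subst this
    simp only [List.mem_cons, List.not_mem_nil, or_false] at h2
    rcases h2 with rfl | rfl | rfl <;> norm_num [c15] at he
  · have h4 : ((41 : ℤ) ^ 3) ∣ c15 x + 1 := by
      rw [he]
      exact dvd_mul_of_dvd_right (pow_dvd_pow _ (by omega)) _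
    simp only [List.mem_cons, List.not_mem_nil, or_false] at h2
    rcases h2 with rfl | rfl | rfl <;> norm_num [c15] at h4

theorem le24 (x : ℤ) (hx : 2500 ≤ |x|) : c24 x + 1 ≤ 4 * |x| ^ 8 := by
  have e8 : x ^ 8 = |x| ^ 8 := (Even.pow_abs (by decide) x).symm
  have e4 : x ^ 4 = |x| ^ 4 := (Even.pow_abs (by decide) x).symm
  unfold c24
  have g0 : 2500 * |x| ^ 4 ≤ |x| ^ 5 := (pows hx 4).2
  have g1 : 2500 * |x| ^ 5 ≤ |x| ^ 6 := (pows hx 5).2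
  have g2 : 2500 * |x| ^ 6 ≤ |x| ^ 7 := (pows hx 6).2
  have g3 : 2500 * |x| ^ 7 ≤ |x| ^ 8 := (pows hx 7).2
  rw [e8, e4]
  have h4 : 1 ≤ |x| ^ 4 := one_le_pow₀ (by linarith)
  linarith only [g0, g1, g2, g3, h4]

theorem le20 (x : ℤ) (hx : 2500 ≤ |x|) : c20 x + 1 ≤ 4 * |x| ^ 8 := by
  have e8 : x ^ 8 = |x| ^ 8 := (Even.pow_abs (by decide) x).symm
  have e6 : x ^ 6 = |x| ^ 6 := (Even.pow_abs (by decide) x).symm
  have e4 : x ^ 4 = |x| ^ 4 := (Even.pow_abs (by decide) x).symm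
  unfold c20
  have g0 : 2500 * |x| ^ 4 ≤ |x| ^ 5 := (pows hx 4).2
  have g1 : 2500 * |x| ^ 5 ≤ |x| ^ 6 := (pows hx 5).2
  have g2 : 2500 * |x| ^ 6 ≤ |x| ^ 7 := (pows hx 6).2
  have g3 : 2500 * |x| ^ 7 ≤ |x| ^ 8 := (pows hx 7).2
  rw [e8, e6, e4]
  have h4 : 1 ≤ |x| ^ 4 := one_le_pow₀ (by linarith)
  have h2 := sq_nonneg x
  linarith only [g0, g1, g2, g3, h4, h2]

theorem le15 (x : ℤ) (hx : 2500 ≤ |x|) : c15 x + 1 ≤ 4 * |x| ^ 8 := by
  have e8 : x ^ 8 = |x| ^ 8 := (Even.pow_abs (by decide) x).symm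
  have e4 : x ^ 4 = |x| ^ 4 := (Even.pow_abs (by decide) x).symm
  have b1 : -|x| ≤ x ∧ x ≤ |x| := abs_le.mp le_rfl
  have b3 : -|x| ^ 3 ≤ x ^ 3 ∧ x ^ 3 ≤ |x| ^ 3 := abs_le.mp (le_of_eq (abs_pow x 3))
  have b5 : -|x| ^ 5 ≤ x ^ 5 ∧ x ^ 5 ≤ |x| ^ 5 := abs_le.mp (le_of_eq (abs_pow x 5))
  have b7 : -|x| ^ 7 ≤ x ^ 7 ∧ x ^ 7 ≤ |x| ^ 7 := abs_le.mp (le_of_eq (abs_pow x 7))
  unfold c15
  have g0 : 2500 * |x| ^ 4 ≤ |x| ^ 5 := (pows hx 4).2
  have g1 : 2500 * |x| ^ 5 ≤ |x| ^ 6 := (pows hx 5).2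
  have g2 : 2500 * |x| ^ 6 ≤ |x| ^ 7 := (pows hx 6).2
  have g3 : 2500 * |x| ^ 7 ≤ |x| ^ 8 := (pows hx 7).2
  have g4 : 2500 * |x| ^ 3 ≤ |x| ^ 4 := (pows hx 3).2
  have g5 : 2500 * |x| ^ 2 ≤ |x| ^ 3 := (pows hx 2).2
  have g6 : 2500 * |x| ^ 1 ≤ |x| ^ 2 := (pows hx 1).2
  rw [e8, e4]
  linarith only [g0, g1, g2, g3, g4, g5, g6, b1.1, b1.2, b3.1, b3.2, b5.1, b5.2,
    b7.1, b7.2, hx]

theorem dvd24 (x : ℤ) : x ∣ c24 x - 1 := ⟨x ^ 7 - x ^ 3, by unfold c24; ring⟩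
theorem dvd20 (x : ℤ) : x ∣ c20 x - 1 := ⟨x ^ 7 - x ^ 5 + x ^ 3 - x, by unfold c20; ring⟩
theorem dvd15 (x : ℤ) : x ∣ c15 x - 1 :=
  ⟨x ^ 7 - x ^ 6 + x ^ 4 - x ^ 3 + x ^ 2 - 1, by unfold c15; ring⟩

/-- `M` is even, from a congruence mod 16 -/
theorem even_of_16 {v : ℤ} {l M : ℕ} (hv : (v : ZMod 16) = 1)
    (hl : (2 : ZMod 16) * l ^ 2 = 2) (hl' : (2 : ZMod 16) * l ≠ 2)
    (h : v + 1 = 2 * (l : ℤ) ^ M) : ∃ n, M = 2 * n := by
  rcases Nat.even_or_odd' M with ⟨n, hn | hn⟩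
  · exact ⟨n, hn⟩
  · exfalso
    have h1 : ((v + 1 : ℤ) : ZMod 16) = ((2 * (l : ℤ) ^ M : ℤ) : ZMod 16) := by rw [h]
    push_cast at h1
    rw [hv, hn, pow_succ, pow_mul, ← mul_assoc] at h1
    have h2 : ∀ m : ℕ, (2 : ZMod 16) * ((l : ZMod 16) ^ 2) ^ m = 2 := by
      intro m
      induction m with
      | zero => simp
      | succ m ih => rw [pow_succ', ← mul_assoc, hl, ih]
    rw [h2 n] at h1
    apply hl'
    rw [← h1]
    decide

theorem even_of_3 {v : ℤ} {M : ℕ} (hv : (v : ZMod 3) = 1)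
    (h : v + 1 = 2 * ((41 : ℕ) : ℤ) ^ M) : ∃ n, M = 2 * n := by
  rcases Nat.even_or_odd' M with ⟨n, hn | hn⟩
  · exact ⟨n, hn⟩
  · exfalso
    have h1 : ((v + 1 : ℤ) : ZMod 3) = ((2 * ((41 : ℕ) : ℤ) ^ M : ℤ) : ZMod 3) := by rw [h]
    push_cast at h1
    rw [hv, hn, pow_succ, pow_mul] at h1
    have h2 : (41 : ZMod 3) ^ 2 = 1 := by decide
    rw [h2, one_pow] at h1
    exact absurd h1 (by decide)

theorem no24 {x : ℤ} {t f M : ℕ} (ht : t.Prime) (hf : f ≠ 0) (hx : x.natAbs = t ^ f)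
    (hM : M ≠ 0) (h : c24 x + 1 = 2 * ((211 : ℕ) : ℤ) ^ M) : False := by
  obtain ⟨n, rfl⟩ := even_of_16 (v := c24 x) (l := 211) (by
    have : ∀ z : ZMod 16, z ^ 8 - z ^ 4 + 1 = 1 := by decide
    unfold c24
    push_cast
    exact this _) (by decide) (by decide) h
  exact solve (c := c24) (l := 211) (e := 3) (u := 5565) (by norm_num) (by norm_num)
    (by norm_num) (by decide) (by norm_num) (small_of chk24)
    (fun ht ho _ hx hy hb h => odd24 ht ho hx hy (by linarith) h) dvd24 le24 ht hf hx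
    (by omega) h

theorem no41 {x : ℤ} {t f M : ℕ} (ht : t.Prime) (hf : f ≠ 0) (hx : x.natAbs = t ^ f)
    (hM : M ≠ 0) (h : c15 x + 1 = 2 * ((41 : ℕ) : ℤ) ^ M) : False := by
  obtain ⟨n, rfl⟩ := even_of_3 (v := c15 x) (by
    have : ∀ z : ZMod 3, z ^ 8 - z ^ 7 + z ^ 5 - z ^ 4 + z ^ 3 - z + 1 = 1 := by decide
    unfold c15
    push_cast
    exact this _) h
  exact solve (c := c15) (l := 41) (e := 4) (u := 105) (by norm_num) (by norm_num)
    (by norm_num) (by decide) (by norm_num) small41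
    (fun ht ho hf hx hy hb h => odd15 ht ho hf hx hy hb h) dvd15 le15 ht hf hx
    (by omega) h

theorem cast16_of_odd {x : ℤ} (h : Odd x) :
    (x : ZMod 16) ∈ ({1, 3, 5, 7, 9, 11, 13, 15} : Finset (ZMod 16)) := by
  obtain ⟨k, rfl⟩ := h
  push_cast
  have : ∀ z : ZMod 16, 2 * z + 1 ∈ ({1, 3, 5, 7, 9, 11, 13, 15} : Finset (ZMod 16)) := by
    decide
  exact this _

theorem no20 {x : ℤ} {t f M : ℕ} (ht : t.Prime) (hf : f ≠ 0) (hx : x.natAbs = t ^ f)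
    (hM : M ≠ 0) (h : c20 x + 1 = 2 * ((271 : ℕ) : ℤ) ^ M) : False := by
  by_cases hx2 : x.natAbs = 2
  · have h1 : ((271 : ℕ) : ℤ) ∣ c20 x + 1 := by
      rw [h]
      exact dvd_mul_of_dvd_right (dvd_pow_self _ hM) _
    rcases Int.natAbs_eq x with h2 | h2 <;> rw [hx2] at h2 <;> rw [h2] at h1 <;>
      norm_num [c20] at h1
  obtain ⟨n, rfl⟩ := even_of_16 (v := c20 x) (l := 271) (by
    unfold c20
    push_cast
    rcases ht.eq_two_or_odd' with rfl | ho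
    · have h4 : (4 : ℤ) ∣ x := by
        rw [show (4 : ℤ) = ((4 : ℕ) : ℤ) by norm_num, Int.natCast_dvd, hx]
        have : 2 ≤ f := by
          by_contra hc
          have : f = 1 := by omega
          subst this
          exact hx2 (by simpa using hx)
        exact pow_dvd_pow 2 this
      obtain ⟨k, rfl⟩ := h4
      push_cast
      have : ∀ z : ZMod 16, (4 * z) ^ 8 - (4 * z) ^ 6 + (4 * z) ^ 4 - (4 * z) ^ 2 + 1 = 1 := by
        decide
      exact this _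
    · have h4 : Odd x := by
        rw [← Int.natAbs_odd, hx]
        exact ho.pow
      have h5 := cast16_of_odd h4
      have : ∀ z ∈ ({1, 3, 5, 7, 9, 11, 13, 15} : Finset (ZMod 16)),
          z ^ 8 - z ^ 6 + z ^ 4 - z ^ 2 + 1 = 1 := by decide
      exact this _ h5) (by decide) (by decide) h
  exact solve (c := c20) (l := 271) (e := 5) (u := 2295) (by norm_num) (by norm_num)
    (by norm_num) (by decide) (by norm_num) (small_of chk20)
    (fun ht ho hf hx hy hb h => odd20 ht ho hf hx hy (by linarith) h) dvd20 le20 ht hf hx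
    (by omega) h

theorem no5581 {x : ℤ} {t f M : ℕ} (ht : t.Prime) (hf : f ≠ 0) (hx : x.natAbs = t ^ f)
    (hM : M ≠ 0) (h : c15 x + 1 = 2 * ((5581 : ℕ) : ℤ) ^ M) : False := by
  by_cases hx2 : x.natAbs = 2 ∨ x.natAbs = 4 ∨ x.natAbs = 8
  · have h1 : ((5581 : ℕ) : ℤ) ∣ c15 x + 1 := by
      rw [h]
      exact dvd_mul_of_dvd_right (dvd_pow_self _ hM) _
    rcases hx2 with hx2 | hx2 | hx2 <;>
    rcases Int.natAbs_eq x with h2 | h2 <;> rw [hx2] at h2 <;> rw [h2] at h1 <;>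
      norm_num [c15] at h1
  obtain ⟨n, rfl⟩ := even_of_16 (v := c15 x) (l := 5581) (by
    unfold c15
    push_cast
    rcases ht.eq_two_or_odd' with rfl | ho
    · have h4 : (16 : ℤ) ∣ x := by
        rw [show (16 : ℤ) = ((16 : ℕ) : ℤ) by norm_num, Int.natCast_dvd, hx]
        have : 4 ≤ f := by
          by_contra hc
          have : f = 1 ∨ f = 2 ∨ f = 3 := by omega
          rcases this with rfl | rfl | rfl <;> exact hx2 (by simp [hx])
        exact pow_dvd_pow 2 this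
      obtain ⟨k, rfl⟩ := h4
      push_cast
      have h16 : (16 : ZMod 16) = 0 := by decide
      rw [h16]
      simp
    · have h4 : Odd x := by
        rw [← Int.natAbs_odd, hx]
        exact ho.pow
      have h5 := cast16_of_odd h4
      have : ∀ z ∈ ({1, 3, 5, 7, 9, 11, 13, 15} : Finset (ZMod 16)),
          z ^ 8 - z ^ 7 + z ^ 5 - z ^ 4 + z ^ 3 - z + 1 = 1 := by decide
      exact this _ h5) (by decide) (by decide) h
  exact solve (c := c15) (l := 5581) (e := 3) (u := 3893445) (by norm_num) (by norm_num)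
    (by norm_num) (by decide) (by norm_num) (small_of chk15)
    (fun ht ho hf hx hy hb h => odd15 ht ho hf hx hy hb h) dvd15 le15 ht hf hx
    (by omega) h

/-! ### The common step -/

theorem step {v : ℤ} {p j k l D : ℕ} (hp : p.Prime) (hp4 : p % 4 = 1) (hk : Odd k)
    (hv : v = (p : ℤ) ^ j) (hv1 : 1 < v) (hD : (D : ℤ) ∣ v - 1)
    (hDp : ∀ r : ℕ, r.Prime → r ∣ D → r ∣ p ^ k - 1)
    (hsize : ∀ P n : ℕ, 5 ≤ P → 2 ≤ n → v = (P : ℤ) ^ n → D ≤ (P - 1) * n → False)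
    (hl : ∀ r : ℕ, r.Prime → r ≠ 2 → r ∣ p ^ k + 1 → (r : ℤ) ∣ v + 1 → r = l) :
    ∃ M : ℕ, M ≠ 0 ∧ v + 1 = 2 * (l : ℤ) ^ M := by
  have hp5 : 5 ≤ p := by
    have := hp.two_le
    by_contra hc
    have : p = 2 ∨ p = 3 ∨ p = 4 := by omega
    rcases this with rfl | rfl | rfl <;> omega
  have hj : j ≠ 0 := by
    rintro rfl
    simp at hv
    omega
  have hk0 : k ≠ 0 := by
    rintro rfl
    exact absurd hk (by decide)
  set g := Nat.gcd j k with hg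
  have hg0 : g ≠ 0 := by
    rw [hg]
    exact (Nat.gcd_pos_of_pos_left _ (Nat.pos_of_ne_zero hj)).ne'
  obtain ⟨n, hn⟩ : g ∣ j := Nat.gcd_dvd_left _ _
  obtain ⟨m, hm⟩ : g ∣ k := Nat.gcd_dvd_right _ _
  have hmo : Odd m := by
    rw [hm] at hk
    exact (Nat.odd_mul.mp hk).2
  set P := p ^ g with hP
  have hPn : v = (P : ℤ) ^ n := by
    rw [hv, hn, pow_mul, hP]; push_cast; rfl
  have hP5 : 5 ≤ P := hp5.trans (Nat.le_self_pow hg0 p)
  have hP4 : P % 4 = 1 := by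
    rw [hP, Nat.pow_mod, hp4]; simp
  have hn0 : n ≠ 0 := by
    rintro rfl
    exact hj (by simpa using hn)
  have hPn1 : 1 ≤ P ^ n := Nat.one_le_pow _ _ (by omega)
  have hDn : D ∣ P ^ n - 1 := by
    have h1 : v - 1 = ((P ^ n - 1 : ℕ) : ℤ) := by
      rw [hPn]; push_cast [Nat.cast_sub hPn1]; rfl
    rw [h1, Int.natCast_dvd_natCast] at hD
    exact hD
  have hdd : D ∣ (P - 1) * n := by
    refine lte (by omega) hn0 hDn ?_ fun _ => by omega
    intro r hr hrD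
    have h1 : r ∣ p ^ k - 1 := hDp r hr hrD
    have h2 : r ∣ p ^ j - 1 := by
      rw [hn, pow_mul]
      exact hrD.trans hDn
    have h3 := Nat.dvd_gcd h2 h1
    rwa [Nat.pow_sub_one_gcd_pow_sub_one, ← hg] at h3
  have hle : D ≤ (P - 1) * n :=
    Nat.le_of_dvd (Nat.mul_pos (by omega) (Nat.pos_of_ne_zero hn0)) hdd
  have hn1 : n = 1 := by
    by_contra hc
    exact hsize P n hP5 (by omega) hPn hle
  subst hn1
  rw [pow_one] at hPn
  obtain ⟨s, hs⟩ : 2 ∣ P + 1 := by omega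
  have hso : s % 2 = 1 := by omega
  have hPk : P + 1 ∣ p ^ k + 1 := by
    have := Odd.nat_add_dvd_pow_add_pow P 1 hmo
    rw [one_pow, hP, ← pow_mul, ← hm] at this
    exact this
  have hsl : ∀ {d : ℕ}, d.Prime → d ∣ s → d = l := by
    intro d hd hds
    have h1 : d ∣ P + 1 := by rw [hs]; exact dvd_mul_of_dvd_right hds _
    refine hl d hd ?_ (h1.trans hPk) ?_
    · rintro rfl
      omega
    · rw [hPn]
      exact_mod_cast h1
  have hs0 : s ≠ 0 := by omega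
  have h2 := Nat.eq_prime_pow_of_unique_prime_dvd hs0 hsl
  refine ⟨s.primeFactorsList.length, ?_, ?_⟩
  · intro h3
    rw [h3, pow_zero] at h2
    omega
  · have : ((s : ℕ) : ℤ) = (l : ℤ) ^ s.primeFactorsList.length := by exact_mod_cast h2
    rw [← this, hPn]
    exact_mod_cast hs

/-! ### Resultants -/

theorem prime_of_lin {r q : ℕ} (hr : r.Prime) (hq : q.Prime) {A B U V : ℤ}
    (hA : (r : ℤ) ∣ A) (hB : (r : ℤ) ∣ B) (h : U * A + V * B = q) : r = q := by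
  have h1 : (r : ℤ) ∣ (q : ℤ) := by
    rw [← h]
    exact dvd_add (dvd_mul_of_dvd_right hA _) (dvd_mul_of_dvd_right hB _)
  exact (Nat.prime_dvd_prime_iff_eq hr hq).mp (by exact_mod_cast h1)

theorem r15_20 {r : ℕ} (hr : r.Prime) {x : ℤ} (h1 : (r : ℤ) ∣ c15 x)
    (h2 : (r : ℤ) ∣ c20 x + 1) : r = 271 :=
  prime_of_lin hr (by norm_num) h1 h2
    (U := (-145) + (-107)*x + (-13)*x^2 + (39)*x^3 + (-54)*x^4 + (-109)*x^5 + (-7)*x^6 + (21)*x^7)
    (V := (208) + (-19)*x + (57)*x^2 + (37)*x^3 + (-48)*x^4 + (81)*x^5 + (28)*x^6 + (-21)*x^7)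
    (by unfold c15 c20; push_cast; ring)

theorem r15_24 {r : ℕ} (hr : r.Prime) {x : ℤ} (h1 : (r : ℤ) ∣ c15 x)
    (h2 : (r : ℤ) ∣ c24 x + 1) : r = 211 :=
  prime_of_lin hr (by norm_num) h1 h2
    (U := (-25) + (35)*x + (-49)*x^2 + (-58)*x^3 + (-54)*x^4 + (-51)*x^5 + (-13)*x^6 + (-24)*x^7)
    (V := (118) + (-30)*x + (42)*x^2 + (17)*x^3 + (27)*x^4 + (38)*x^5 + (-11)*x^6 + (24)*x^7)
    (by unfold c15 c24; push_cast; ring)

theorem r30_15 {r : ℕ} (hr : r.Prime) {x : ℤ} (h1 : (r : ℤ) ∣ c30 x)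
    (h2 : (r : ℤ) ∣ c15 x + 1) : r = 5581 :=
  prime_of_lin hr (by norm_num) h1 h2
    (U := (1795) + (-1618)*x + (124)*x^2 + (1126)*x^3 + (-1208)*x^4 + (1642)*x^5 + (-1340)*x^6 + (954)*x^7)
    (V := (1893) + (858)*x + (1176)*x^2 + (-86)*x^3 + (604)*x^4 + (-870)*x^5 + (-568)*x^6 + (-954)*x^7)
    (by unfold c15 c30; push_cast; ring)

theorem r20_15 {r : ℕ} (hr : r.Prime) {x : ℤ} (h1 : (r : ℤ) ∣ c20 x)
    (h2 : (r : ℤ) ∣ c15 x + 1) : r = 41 :=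
  prime_of_lin hr (by norm_num) h1 h2
    (U := (-1) + (-15)*x + (-7)*x^2 + (14)*x^3 + (-8)*x^4 + (19)*x^5 + (-13)*x^6 + (4)*x^7)
    (V := (21) + (18)*x + (12)*x^2 + (-19)*x^3 + (-7)*x^4 + (-6)*x^5 + (9)*x^6 + (-4)*x^7)
    (by unfold c15 c20; push_cast; ring)

theorem r20_24 {r : ℕ} (hr : r.Prime) {x : ℤ} (h1 : (r : ℤ) ∣ c20 x)
    (h2 : (r : ℤ) ∣ c24 x + 1) : False := by
  have h := prime_of_lin hr (q := 11) (by norm_num) h1 h2
    (U := (-5) + (-7)*x^2 + (-4)*x^4 + (1)*x^6)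
    (V := (8) + (1)*x^2 + (5)*x^4 + (-1)*x^6)
    (by unfold c20 c24; push_cast; ring)
  subst h
  have h3 : (c20 x : ZMod 11) = 0 := (ZMod.intCast_zmod_eq_zero_iff_dvd _ _).mpr h1
  unfold c20 at h3
  push_cast at h3
  have : ∀ z : ZMod 11, z ^ 8 - z ^ 6 + z ^ 4 - z ^ 2 + 1 ≠ 0 := by decide
  exact this _ h3

theorem c24_five {x : ℤ} (h1 : ((5 : ℕ) : ℤ) ∣ c24 x) : False := by
  have h3 : (c24 x : ZMod 5) = 0 := (ZMod.intCast_zmod_eq_zero_iff_dvd _ _).mpr h1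
  unfold c24 at h3
  push_cast at h3
  have : ∀ z : ZMod 5, z ^ 8 - z ^ 4 + 1 ≠ 0 := by decide
  exact this _ h3

theorem r24_15 {r : ℕ} (hr : r.Prime) {x : ℤ} (h1 : (r : ℤ) ∣ c24 x)
    (h2 : (r : ℤ) ∣ c15 x + 1) : False := by
  have h := prime_of_lin hr (q := 5) (by norm_num) h1 h2
    (U := (1) + (-3)*x^2 + (4)*x^3 + (-2)*x^4 + (1)*x^6)
    (V := (2) + (1)*x + (2)*x^2 + (-2)*x^3 + (1)*x^4 + (-1)*x^5 + (-1)*x^6)
    (by unfold c15 c24; push_cast; ring)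
  subst h
  exact c24_five h1

theorem r24_20 {r : ℕ} (hr : r.Prime) {x : ℤ} (h1 : (r : ℤ) ∣ c24 x)
    (h2 : (r : ℤ) ∣ c20 x + 1) : False := by
  have h := prime_of_lin hr (q := 5) (by norm_num) h1 h2
    (U := (-1) + (-1)*x^2 + (1)*x^6)
    (V := (3) + (2)*x^2 + (-1)*x^4 + (-1)*x^6)
    (by unfold c20 c24; push_cast; ring)
  subst h
  exact c24_five h1

/-! ### The main theorem -/

theorem pos15 {x : ℤ} (h : 2 ≤ |x|) : 1 < c15 x := by
  unfold c15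
  rcases abs_cases x with ⟨h1, h2⟩ | ⟨h1, h2⟩
  · obtain ⟨k, rfl⟩ : ∃ k : ℤ, x = k + 2 := ⟨x - 2, by ring⟩
    have hk : 0 ≤ k := by rw [h1] at h; linarith
    have e : 0 ≤ 635 * k + 1182 * k ^ 2 + 1265 * k ^ 3 + 849 * k ^ 4 + 365 * k ^ 5 + 98 * k ^ 6 + 15 * k ^ 7 + 1 * k ^ 8 := by positivity
    nlinarith only [e]
  · obtain ⟨k, rfl⟩ : ∃ k : ℤ, x = -k - 2 := ⟨-x - 2, by ring⟩
    have hk : 0 ≤ k := by rw [h1] at h; linarith
    have e : 0 ≤ 1349 * k + 2354 * k ^ 2 + 2303 * k ^ 3 + 1389 * k ^ 4 + 531 * k ^ 5 + 126 * k ^ 6 + 17 * k ^ 7 + 1 * k ^ 8 := by positivity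
    nlinarith only [e]

theorem pos20 {x : ℤ} (h : 2 ≤ |x|) : 1 < c20 x := by
  unfold c20
  rcases abs_cases x with ⟨h1, h2⟩ | ⟨h1, h2⟩
  · obtain ⟨k, rfl⟩ : ∃ k : ℤ, x = k + 2 := ⟨x - 2, by ring⟩
    have hk : 0 ≤ k := by rw [h1] at h; linarith
    have e : 0 ≤ 860 * k + 1575 * k ^ 2 + 1640 * k ^ 3 + 1061 * k ^ 4 + 436 * k ^ 5 + 111 * k ^ 6 + 16 * k ^ 7 + 1 * k ^ 8 := by positivity
    nlinarith only [e]
  · obtain ⟨k, rfl⟩ : ∃ k : ℤ, x = -k - 2 := ⟨-x - 2, by ring⟩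
    have hk : 0 ≤ k := by rw [h1] at h; linarith
    have e : 0 ≤ 860 * k + 1575 * k ^ 2 + 1640 * k ^ 3 + 1061 * k ^ 4 + 436 * k ^ 5 + 111 * k ^ 6 + 16 * k ^ 7 + 1 * k ^ 8 := by positivity
    nlinarith only [e]

theorem pos24 {x : ℤ} (h : 2 ≤ |x|) : 1 < c24 x := by
  unfold c24
  rcases abs_cases x with ⟨h1, h2⟩ | ⟨h1, h2⟩
  · obtain ⟨k, rfl⟩ : ∃ k : ℤ, x = k + 2 := ⟨x - 2, by ring⟩
    have hk : 0 ≤ k := by rw [h1] at h; linarith
    have e : 0 ≤ 992 * k + 1768 * k ^ 2 + 1784 * k ^ 3 + 1119 * k ^ 4 + 448 * k ^ 5 + 112 * k ^ 6 + 16 * k ^ 7 + 1 * k ^ 8 := by positivity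
    nlinarith only [e]
  · obtain ⟨k, rfl⟩ : ∃ k : ℤ, x = -k - 2 := ⟨-x - 2, by ring⟩
    have hk : 0 ≤ k := by rw [h1] at h; linarith
    have e : 0 ≤ 992 * k + 1768 * k ^ 2 + 1784 * k ^ 3 + 1119 * k ^ 4 + 448 * k ^ 5 + 112 * k ^ 6 + 16 * k ^ 7 + 1 * k ^ 8 := by positivity
    nlinarith only [e]

theorem big15 {x : ℤ} (h : 3 ≤ |x|) : 4 * c15 x < (x * (x ^ 4 - 1)) ^ 2 := by
  unfold c15
  rcases abs_cases x with ⟨h1, h2⟩ | ⟨h1, h2⟩
  · obtain ⟨k, rfl⟩ : ∃ k : ℤ, x = k + 3 := ⟨x - 3, by ring⟩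
    have hk : 0 ≤ k := by rw [h1] at h; linarith
    have e : 0 ≤ 143056 * k + 230680 * k ^ 2 + 217952 * k ^ 3 + 133864 * k ^ 4 + 55904 * k ^ 5 + 16084 * k ^ 6 + 3148 * k ^ 7 + 401 * k ^ 8 + 30 * k ^ 9 + 1 * k ^ 10 := by positivity
    nlinarith only [e]
  · obtain ⟨k, rfl⟩ : ∃ k : ℤ, x = -k - 3 := ⟨-x - 3, by ring⟩
    have hk : 0 ≤ k := by rw [h1] at h; linarith
    have e : 0 ≤ 105680 * k + 192088 * k ^ 2 + 196000 * k ^ 3 + 126424 * k ^ 4 + 54400 * k ^ 5 + 15916 * k ^ 6 + 3140 * k ^ 7 + 401 * k ^ 8 + 30 * k ^ 9 + 1 * k ^ 10 := by positivity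
    nlinarith only [e]

theorem two_le_abs {x : ℤ} {t f : ℕ} (ht : t.Prime) (hf : f ≠ 0) (hx : x.natAbs = t ^ f) :
    2 ≤ |x| := by
  rw [Int.abs_eq_natAbs, hx]
  have : t ≤ t ^ f := Nat.le_self_pow hf t
  have := ht.two_le
  exact_mod_cast (by omega : 2 ≤ t ^ f)

section main

variable {x : ℤ} {p j k t f : ℕ} (ht : t.Prime) (hf : f ≠ 0) (hx : x.natAbs = t ^ f)
  (hp : p.Prime) (hp4 : p % 4 = 1) (hk : Odd k)
  (hB : ∀ r : ℕ, r.Prime → (r : ℤ) ∣ x * (x ^ 4 - 1) * (x ^ 4 + 1) → r ∣ p ^ k - 1)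
include ht hf hx hp hp4 hk hB

theorem step15 (hj : c15 x = (p : ℤ) ^ j) {l : ℕ}
    (hl : ∀ r : ℕ, r.Prime → r ≠ 2 → r ∣ p ^ k + 1 → (r : ℤ) ∣ c15 x + 1 → r = l) :
    ∃ M : ℕ, M ≠ 0 ∧ c15 x + 1 = 2 * (l : ℤ) ^ M := by
  have h2 := two_le_abs ht hf hx
  have hDa : ((x * (x ^ 4 - 1)).natAbs : ℤ) ∣ x * (x ^ 4 - 1) := Int.natAbs_dvd.mpr dvd_rfl
  refine step (D := (x * (x ^ 4 - 1)).natAbs) hp hp4 hk hj (pos15 h2) ?_ ?_ ?_ hl
  · refine hDa.trans ⟨x ^ 3 - x ^ 2 + 1, ?_⟩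
    unfold c15; ring
  · intro r hr hrD
    refine hB r hr (dvd_mul_of_dvd_left ?_ _)
    exact (Int.natCast_dvd_natCast.mpr hrD).trans hDa
  · intro P n hP hn hPn hle
    have h3 := size hP hn
    have h4 : ((x * (x ^ 4 - 1)).natAbs) ^ 2 ≤ 4 * P ^ n := (Nat.pow_le_pow_left hle 2).trans h3
    have h5 : (x * (x ^ 4 - 1)) ^ 2 ≤ 4 * c15 x := by
      rw [hPn]
      have : (((x * (x ^ 4 - 1)).natAbs ^ 2 : ℕ) : ℤ) ≤ ((4 * P ^ n : ℕ) : ℤ) := by
        exact_mod_cast h4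
      push_cast at this
      rwa [sq_abs] at this
    by_cases h6 : 3 ≤ |x|
    · linarith [big15 h6]
    · have h7 : |x| = 2 := by omega
      rcases eq_or_eq_neg_of_abs_eq h7 with rfl | rfl
      · norm_num [c15] at h5
      · have h8 : P ^ n = 331 := by
          have : ((P ^ n : ℕ) : ℤ) = ((331 : ℕ) : ℤ) := by
            push_cast
            rw [← hPn]
            norm_num [c15]
          exact_mod_cast this
        have h9 : Nat.Prime 331 := by norm_num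
        rw [← h8] at h9
        have := Nat.Prime.eq_one_of_pow h9
        omega

theorem step20 (hj : c20 x = (p : ℤ) ^ j) {l : ℕ}
    (hl : ∀ r : ℕ, r.Prime → r ≠ 2 → r ∣ p ^ k + 1 → (r : ℤ) ∣ c20 x + 1 → r = l) :
    ∃ M : ℕ, M ≠ 0 ∧ c20 x + 1 = 2 * (l : ℤ) ^ M := by
  have h2 := two_le_abs ht hf hx
  have hDa : ((c20 x - 1).natAbs : ℤ) ∣ c20 x - 1 := Int.natAbs_dvd.mpr dvd_rfl
  refine step (D := (c20 x - 1).natAbs) hp hp4 hk hj (pos20 h2) hDa ?_ ?_ hl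
  · intro r hr hrD
    have h3 : (r : ℤ) ∣ c20 x - 1 := (Int.natCast_dvd_natCast.mpr hrD).trans hDa
    have h4 : c20 x - 1 = x * x * (x ^ 2 - 1) * (x ^ 4 + 1) := by unfold c20; ring
    rw [h4] at h3
    have hpr : Prime (r : ℤ) := Nat.prime_iff_prime_int.mp hr
    refine hB r hr ?_
    rcases hpr.dvd_or_dvd h3 with h3 | h3
    · rcases hpr.dvd_or_dvd h3 with h3 | h3
      · have : (r : ℤ) ∣ x := by rcases hpr.dvd_or_dvd h3 with h | h <;> exact h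
        exact dvd_mul_of_dvd_left (dvd_mul_of_dvd_left this _) _
      · refine dvd_mul_of_dvd_left (dvd_mul_of_dvd_right (h3.trans ⟨x ^ 2 + 1, by ring⟩) _) _
    · exact dvd_mul_of_dvd_right h3 _
  · intro P n hP hn hPn hle
    have h3 := bern hP hn
    have h4 : (((c20 x - 1).natAbs : ℕ) : ℤ) = (P : ℤ) ^ n - 1 := by
      rw [← hPn, ← Int.abs_eq_natAbs, abs_of_pos (by linarith [pos20 h2])]
    have h5 : 1 ≤ P ^ n := Nat.one_le_pow _ _ (by omega)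
    have h6 : (((P - 1) * n : ℕ) : ℤ) < ((P ^ n - 1 : ℕ) : ℤ) := by exact_mod_cast h3
    rw [Nat.cast_sub h5] at h6
    have h7 : (((c20 x - 1).natAbs : ℕ) : ℤ) ≤ (((P - 1) * n : ℕ) : ℤ) := by exact_mod_cast hle
    push_cast at h6 h7 h4
    linarith

theorem step24 (hj : c24 x = (p : ℤ) ^ j) {l : ℕ}
    (hl : ∀ r : ℕ, r.Prime → r ≠ 2 → r ∣ p ^ k + 1 → (r : ℤ) ∣ c24 x + 1 → r = l) :
    ∃ M : ℕ, M ≠ 0 ∧ c24 x + 1 = 2 * (l : ℤ) ^ M := by
  have h2 := two_le_abs ht hf hx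
  have hDa : ((c24 x - 1).natAbs : ℤ) ∣ c24 x - 1 := Int.natAbs_dvd.mpr dvd_rfl
  refine step (D := (c24 x - 1).natAbs) hp hp4 hk hj (pos24 h2) hDa ?_ ?_ hl
  · intro r hr hrD
    have h3 : (r : ℤ) ∣ c24 x - 1 := (Int.natCast_dvd_natCast.mpr hrD).trans hDa
    have h4 : c24 x - 1 = x ^ 4 * (x ^ 4 - 1) := by unfold c24; ring
    rw [h4] at h3
    have hpr : Prime (r : ℤ) := Nat.prime_iff_prime_int.mp hr
    refine hB r hr (dvd_mul_of_dvd_left ?_ _)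
    rcases hpr.dvd_or_dvd h3 with h3 | h3
    · exact dvd_mul_of_dvd_left (hpr.dvd_of_dvd_pow h3) _
    · exact dvd_mul_of_dvd_right h3 _
  · intro P n hP hn hPn hle
    have h3 := bern hP hn
    have h4 : (((c24 x - 1).natAbs : ℕ) : ℤ) = (P : ℤ) ^ n - 1 := by
      rw [← hPn, ← Int.abs_eq_natAbs, abs_of_pos (by linarith [pos24 h2])]
    have h5 : 1 ≤ P ^ n := Nat.one_le_pow _ _ (by omega)
    have h6 : (((P - 1) * n : ℕ) : ℤ) < ((P ^ n - 1 : ℕ) : ℤ) := by exact_mod_cast h3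
    rw [Nat.cast_sub h5] at h6
    have h7 : (((c24 x - 1).natAbs : ℕ) : ℤ) ≤ (((P - 1) * n : ℕ) : ℤ) := by exact_mod_cast hle
    push_cast at h6 h7 h4
    linarith

end main

/-- **The isolated torus orders of `E_8(x)` and the prime graph of `PSL(2, p^k)`, `k` odd,
`p ≡ 1 mod 4`.** -/
theorem main {x : ℤ} {p j k t f : ℕ} (ht : t.Prime) (hf : f ≠ 0) (hx : x.natAbs = t ^ f)
    (hp : p.Prime) (hp4 : p % 4 = 1) (hk : Odd k)
    (hB : ∀ r : ℕ, r.Prime → (r : ℤ) ∣ x * (x ^ 4 - 1) * (x ^ 4 + 1) → r ∣ p ^ k - 1)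
    {u v : ℤ}
    (h : (u = c15 x ∧ (v = c20 x ∨ v = c24 x ∨ v = c30 x)) ∨
      (u = c30 x ∧ (v = c20 x ∨ v = c24 x ∨ v = c15 x)) ∨
      (u = c20 x ∧ (v = c15 x ∨ v = c24 x ∨ v = c30 x)) ∨
      (u = c24 x ∧ (v = c15 x ∨ v = c20 x ∨ v = c30 x)))
    (hj : u = (p : ℤ) ^ j)
    (hA : ∀ r : ℕ, r.Prime → r ≠ 2 → r ∣ p ^ k + 1 → (r : ℤ) ∣ v) : False := by
  have hx' : (-x).natAbs = t ^ f := by rw [Int.natAbs_neg]; exact hx
  have hB' : ∀ r : ℕ, r.Prime → (r : ℤ) ∣ (-x) * ((-x) ^ 4 - 1) * ((-x) ^ 4 + 1) →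
      r ∣ p ^ k - 1 := by
    intro r hr hd
    refine hB r hr ?_
    have : (-x) * ((-x) ^ 4 - 1) * ((-x) ^ 4 + 1) = -(x * (x ^ 4 - 1) * (x ^ 4 + 1)) := by ring
    rw [this, dvd_neg] at hd
    exact hd
  rcases h with ⟨rfl, h⟩ | ⟨rfl, h⟩ | ⟨rfl, h⟩ | ⟨rfl, h⟩
  · rcases h with rfl | rfl | rfl
    · obtain ⟨M, hM, h⟩ := step15 ht hf hx hp hp4 hk hB hj
        fun r hr hr2 hrk hd => r20_15 hr (hA r hr hr2 hrk) hd
      exact no41 ht hf hx hM h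
    · obtain ⟨M, hM, h⟩ := step15 (l := 41) ht hf hx hp hp4 hk hB hj
        fun r hr hr2 hrk hd => (r24_15 hr (hA r hr hr2 hrk) hd).elim
      exact no41 ht hf hx hM h
    · obtain ⟨M, hM, h⟩ := step15 ht hf hx hp hp4 hk hB hj
        fun r hr hr2 hrk hd => r30_15 hr (hA r hr hr2 hrk) hd
      exact no5581 ht hf hx hM h
  · rw [← c15_neg] at hj
    rcases h with rfl | rfl | rfl
    · obtain ⟨M, hM, h⟩ := step15 ht hf hx' hp hp4 hk hB' hj
        fun r hr hr2 hrk hd => r20_15 hr (by rw [c20_neg]; exact hA r hr hr2 hrk) hd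
      exact no41 ht hf hx' hM h
    · obtain ⟨M, hM, h⟩ := step15 (l := 41) ht hf hx' hp hp4 hk hB' hj
        fun r hr hr2 hrk hd => (r24_15 hr (by rw [c24_neg]; exact hA r hr hr2 hrk) hd).elim
      exact no41 ht hf hx' hM h
    · obtain ⟨M, hM, h⟩ := step15 ht hf hx' hp hp4 hk hB' hj
        fun r hr hr2 hrk hd => r30_15 hr (by rw [c30_neg]; exact hA r hr hr2 hrk) hd
      exact no5581 ht hf hx' hM h
  · rcases h with rfl | rfl | rfl
    · obtain ⟨M, hM, h⟩ := step20 ht hf hx hp hp4 hk hB hj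
        fun r hr hr2 hrk hd => r15_20 hr (hA r hr hr2 hrk) hd
      exact no20 ht hf hx hM h
    · obtain ⟨M, hM, h⟩ := step20 (l := 271) ht hf hx hp hp4 hk hB hj
        fun r hr hr2 hrk hd => (r24_20 hr (hA r hr hr2 hrk) hd).elim
      exact no20 ht hf hx hM h
    · obtain ⟨M, hM, h⟩ := step20 ht hf hx hp hp4 hk hB hj
        fun r hr hr2 hrk hd => r15_20 (x := -x) hr (by rw [c15_neg]; exact hA r hr hr2 hrk)
          (by rw [c20_neg]; exact hd)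
      exact no20 ht hf hx hM h
  · rcases h with rfl | rfl | rfl
    · obtain ⟨M, hM, h⟩ := step24 ht hf hx hp hp4 hk hB hj
        fun r hr hr2 hrk hd => r15_24 hr (hA r hr hr2 hrk) hd
      exact no24 ht hf hx hM h
    · obtain ⟨M, hM, h⟩ := step24 (l := 211) ht hf hx hp hp4 hk hB hj
        fun r hr hr2 hrk hd => (r20_24 hr (hA r hr hr2 hrk) hd).elim
      exact no24 ht hf hx hM h
    · obtain ⟨M, hM, h⟩ := step24 ht hf hx hp hp4 hk hB hj
        fun r hr hr2 hrk hd => r15_24 (x := -x) hr (by rw [c15_neg]; exact hA r hr hr2 hrk)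
          (by rw [c24_neg]; exact hd)
      exact no24 ht hf hx hM h

end Cfsg.Agent.H824.EEightNT
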