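import Cfsg.Agent.S0815
import Cfsg.Agent.S0283
import Cfsg.Agent.S0278
import Cfsg.Agent.S0279
import Cfsg.Agent.LieClassical.KleinMinus
import Cfsg.Agent.LieClassical.OmegaCenter
import Cfsg.Agent.LargeExtra.Cards
import Cfsg.Agent.R08.SixHom
import Cfsg.Agent.H824.FiMono

/-!
# `O⁻₆(2) ≅ Aut(PSU₄(2))`
-/

set_option autoImplicit false

namespace Cfsg.Agent.H824.FiOm

open Cfsg Cfsg.Agent.SporRec.GF4

/-- A finite group with a self-centralizing normal subgroup `≅ P` and of the order of `Aut P` is `Aut P`. -/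
theorem equiv_mulAut {X P : Type*} [Group X] [Group P] [Finite P] (N : Subgroup X) [N.Normal] (e : N ≃* P)
    (hC : ∀ c : X, (∀ n ∈ N, c * n = n * c) → c = 1) (hcard : Nat.card X = Nat.card (MulAut P)) :
    Nonempty (X ≃* MulAut P) := by
  let f : X →* MulAut P := (MulAut.congr e).toMonoidHom.comp MulAut.conjNormal
  have hf : Function.Injective f := by
    rw [injective_iff_map_eq_one]
    intro c hc
    apply hC
    intro n hn
    have h1 : MulAut.conjNormal c = (1 : MulAut N) := (MulAut.congr e).injective (hc.trans (map_one _).symm)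
    have h2 := congrArg (fun t : MulAut N => ((t ⟨n, hn⟩ : N) : X)) h1
    have h3 : c * n * c⁻¹ = n := h2
    exact mul_inv_eq_iff_eq_mul.1 h3
  have hb : Function.Bijective f := by
    have : Finite (MulAut P) := inferInstance
    have : Finite X := Finite.of_injective f hf
    rw [Nat.bijective_iff_injective_and_card]
    exact ⟨hf, hcard⟩
  exact ⟨MulEquiv.ofBijective f hb⟩

theorem card_su : Nat.card (SU 4 F4 2) = 25920 := by
  have h1 := Cfsg.Agent.S0278.result (F := F4) (q := 2) (by rw [F4.card_F4]; norm_num) 4 (by norm_num)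
  have h3 : (∏ i ∈ Finset.range 4, (if Even i then 2 ^ (i + 1) + 1 else 2 ^ (i + 1) - 1)) = 1215 := by
    decide
  rw [h3] at h1
  norm_num at h1
  omega

theorem center_su : Subgroup.center (SU 4 F4 2) = ⊥ := by
  have h1 := Cfsg.Agent.S0279.result (F := F4) (q := 2) (by rw [F4.card_F4]; norm_num) 4 (by norm_num)
  rw [show Nat.gcd 4 (2 + 1) = 1 by norm_num] at h1
  exact Subgroup.card_eq_one.1 h1

theorem mem_center_su {x : SU 4 F4 2} (h : x ∈ Subgroup.center (SU 4 F4 2)) : x = 1 := by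
  rwa [center_su] at h

/-- `SU₄(2) ≅ PSU₄(2)` -/
noncomputable def toPSU : SU 4 F4 2 ≃* PSU 4 F4 2 :=
  MulEquiv.ofBijective (QuotientGroup.mk' (Subgroup.center (SU 4 F4 2))) (by
    refine ⟨?_, QuotientGroup.mk'_surjective _⟩
    rw [← MonoidHom.ker_eq_bot_iff, QuotientGroup.ker_mk', center_su])

theorem card_psu : Nat.card (PSU 4 F4 2) = 25920 := by
  rw [← Nat.card_congr toPSU.toEquiv, card_su]

theorem card_aut : Nat.card (MulAut (PSU 4 F4 2)) = 51840 := by
  have : Fact (Nat.Prime 2) := ⟨Nat.prime_two⟩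
  rw [Cfsg.Agent.S0815.result (F := F4) 2 1 le_rfl (q := 2) (by norm_num) (by rw [F4.card_F4]; norm_num)
    4 (by norm_num) (by norm_num), card_psu]
  norm_num

theorem center_psu {c : PSU 4 F4 2} (h : ∀ x, c * x = x * c) : c = 1 := by
  have : Function.Injective toPSU.symm := toPSU.symm.injective
  apply this
  rw [map_one]
  have h1 : toPSU.symm c ∈ Subgroup.center (SU 4 F4 2) := by
    rw [Subgroup.mem_center_iff]
    intro g
    have h2 := congrArg toPSU.symm (h (toPSU g))
    rw [map_mul, map_mul, MulEquiv.symm_apply_apply] at h2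
    exact h2.symm
  exact mem_center_su h1

open Cfsg.Agent.LieClassical.OmegaReindex

/-- the full isometry group -/
abbrev O6 : Type := Cfsg.isometryGroup (ZMod 2) (Cfsg.quadFormMinus 2 (ZMod 2) 1 1)

theorem card_O6 : Nat.card O6 = 51840 := by
  have hcard := Cfsg.Agent.S0288.result (F := ZMod 2) (q := 2) (ZMod.card 2) 3 (by norm_num) 1 1
    LargeExtra.Cards.aniso
  have h2 : Nat.card (Cfsg.isometryGroup (ZMod 2) (Cfsg.quadFormMinus (3 - 1) (ZMod 2) 1 1)) = 51840 := by
    rw [hcard]; decide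
  exact h2

/-- only `1` commutes with `Ω⁻₆(2)` -/
theorem cent_omega (c : O6) (h : ∀ g ∈ Cfsg.Omega (ZMod 2) (Cfsg.quadFormMinus 2 (ZMod 2) 1 1),
    c * g = g * c) : c = 1 := by
  have hQ : (QuadraticMap.polarBilin (quadMinus 2 (ZMod 2) 1 1)).Nondegenerate :=
    quadMinus_nondegenerate LargeExtra.Cards.aniso
  have hn : 3 ≤ Fintype.card ((Fin 2 ⊕ Fin 2) ⊕ Fin 2) := by
    simp only [Fintype.card_sum, Fintype.card_fin]; norm_num
  have key := LieClassical.OmegaCenter.eq_one_or_neg_one_of_commute_omega (quadMinus 2 (ZMod 2) 1 1) hQ hn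
    ⟨Pi.single (.inl (.inl 0)) 1, by
      intro h
      have := congrFun h (.inl (.inl 0))
      rw [Pi.single_eq_same] at this
      exact one_ne_zero this, by
      rw [coe_quadMinus]
      simp [Cfsg.quadFormMinus]⟩ 
  rw [coe_quadMinus] at key
  have h1 := key c h
  apply Subtype.ext
  apply Units.ext
  rcases h1 with h1 | h1
  · exact h1
  · rw [h1]
    ext i j
    rw [Matrix.neg_apply]
    exact ZMod.neg_eq_self_mod_two _

theorem o6_equiv : Nonempty (O6 ≃* MulAut (PSU 4 F4 2)) := by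
  obtain ⟨e⟩ := LieClassical.KleinMinus.nonempty_equiv (F := ZMod 2) (K := F4) (q := 2) (ZMod.card 2)
    (by rw [F4.card_F4]; norm_num) 1 1 LargeExtra.Cards.aniso
  have h1 := Subgroup.card_eq_card_quotient_mul_card_subgroup
    (Subgroup.center (Cfsg.Omega (ZMod 2) (Cfsg.quadFormMinus 2 (ZMod 2) 1 1)))
  have h2 : Nat.card (Cfsg.Omega (ZMod 2) (Cfsg.quadFormMinus 2 (ZMod 2) 1 1) ⧸
      Subgroup.center (Cfsg.Omega (ZMod 2) (Cfsg.quadFormMinus 2 (ZMod 2) 1 1))) = 25920 := by
    rw [← card_psu]; exact Nat.card_congr e.toEquiv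
  rw [LargeExtra.Cards.card_omega_minus_six, h2] at h1
  have h3 : Subgroup.center (Cfsg.Omega (ZMod 2) (Cfsg.quadFormMinus 2 (ZMod 2) 1 1)) = ⊥ :=
    Subgroup.card_eq_one.1 (by omega)
  have e1 : Cfsg.Omega (ZMod 2) (Cfsg.quadFormMinus 2 (ZMod 2) 1 1) ≃*
      Cfsg.Omega (ZMod 2) (Cfsg.quadFormMinus 2 (ZMod 2) 1 1) ⧸
        Subgroup.center (Cfsg.Omega (ZMod 2) (Cfsg.quadFormMinus 2 (ZMod 2) 1 1)) :=
    MulEquiv.ofBijective (QuotientGroup.mk' _) (by
      refine ⟨?_, QuotientGroup.mk'_surjective _⟩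
      rw [← MonoidHom.ker_eq_bot_iff, QuotientGroup.ker_mk', h3])
  exact equiv_mulAut (Cfsg.Omega (ZMod 2) (Cfsg.quadFormMinus 2 (ZMod 2) 1 1)) (e1.trans e) cent_omega
    (by rw [card_aut]; exact card_O6)

end Cfsg.Agent.H824.FiOm
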