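import Mathlib
import Cfsg.Agent.Lib.Hyperfocal

/-!
# Simple groups with an involution centralizer equal to a Sylow 2-subgroup with Frattini subgroup of order two

Element calculus inside `R = C(z)` with squares and commutators in `{1, z}`.
-/

set_option autoImplicit false

namespace Cfsg.Agent.H824.SmallFrattini

open Subgroup

variable {L : Type*} [Group L]

/-- `R = C(z)`, `z` an involution, squares and commutators of `R` are `1` or `z`, some square is `z`. -/
structure Hyp (R : Subgroup L) (z : L) : Prop where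
  z1 : z ≠ 1
  zz : z * z = 1
  cent : ∀ g : L, g ∈ R ↔ g * z = z * g
  sq : ∀ a ∈ R, a * a = 1 ∨ a * a = z
  comm : ∀ a ∈ R, ∀ b ∈ R, a * b = b * a ∨ a * b = z * (b * a)
  ex : ∃ a ∈ R, a * a = z

/-- `X ≤ R` is centric and `g` normalizes `X` and moves `z`. -/
structure Good (R : Subgroup L) (z : L) (X : Subgroup L) (g : L) : Prop where
  le : X ≤ R
  centric : ∀ u ∈ R, (∀ x ∈ X, u * x = x * u) → u ∈ X
  norm : g ∈ normalizer (X : Set L)
  move : g * z * g⁻¹ ≠ z

theorem conj_mem {X : Subgroup L} {g x : L} (hg : g ∈ normalizer (X : Set L)) (hx : x ∈ X) :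
    g * x * g⁻¹ ∈ X := (Subgroup.mem_normalizer_iff.1 hg x).1 hx

theorem conj_mem' {X : Subgroup L} {g x : L} (hg : g ∈ normalizer (X : Set L)) (hx : x ∈ X) :
    g⁻¹ * x * g ∈ X := by
  have := conj_mem (inv_mem hg) hx
  simpa using this

variable {R : Subgroup L} {z : L} (h : Hyp R z)
include h

theorem Hyp.mem : z ∈ R := (h.cent z).2 rfl

theorem Hyp.inv : z⁻¹ = z := inv_eq_of_mul_eq_one_left h.zz

/-- `R` does not centralize a conjugate of `z` other than `z`. -/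
theorem Hyp.not_cent (n : L) (hn : ∀ u ∈ R, u * (n * z * n⁻¹) = (n * z * n⁻¹) * u) : n * z * n⁻¹ = z := by
  obtain ⟨a, ha, haa⟩ := h.ex
  have h1 := hn a ha
  have h2 : n⁻¹ * a * n ∈ R := by
    rw [h.cent]
    calc n⁻¹ * a * n * z = n⁻¹ * (a * (n * z * n⁻¹)) * n := by group
      _ = n⁻¹ * ((n * z * n⁻¹) * a) * n := by rw [h1]
      _ = z * (n⁻¹ * a * n) := by group
  rcases h.sq _ h2 with h3 | h3
  · exfalso
    apply h.z1
    have h4 : n⁻¹ * (a * a) * n = 1 := by rw [← h3]; group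
    rw [haa] at h4
    have : z = n * (n⁻¹ * z * n) * n⁻¹ := by group
    rw [this, h4]; group
  · have h4 : n⁻¹ * (a * a) * n = z := by rw [← h3]; group
    rw [haa] at h4
    nth_rewrite 1 [← h4]
    group

namespace Good

variable {X : Subgroup L} {g : L} (G : Good R z X g)
include G

theorem z_mem : z ∈ X := by
  apply G.centric z h.mem
  intro x hx
  exact ((h.cent x).1 (G.le hx)).symm

theorem t_mem : g * z * g⁻¹ ∈ X := conj_mem G.norm (G.z_mem h)

theorem sq {x : L} (hx : x ∈ X) : x * x = 1 := by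
  rcases h.sq x (G.le hx) with h1 | h1
  · exact h1
  · exfalso
    have h2 : g * x * g⁻¹ ∈ X := conj_mem G.norm hx
    have h3 : g * z * g⁻¹ = (g * x * g⁻¹) * (g * x * g⁻¹) := by rw [← h1]; group
    rcases h.sq _ (G.le h2) with h4 | h4
    · rw [← h3] at h4
      apply h.z1
      have : z = g⁻¹ * (g * z * g⁻¹) * g := by group
      rw [this, h4]; group
    · rw [← h3] at h4
      exact G.move h4

theorem comm {x y : L} (hx : x ∈ X) (hy : y ∈ X) : x * y = y * x := by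
  have h1 := G.sq h (X.mul_mem hx hy)
  have hxx := G.sq h hx
  have hyy := G.sq h hy
  calc x * y = x * y * ((y * y) * 1) := by rw [hyy]; group
    _ = x * y * ((y * (x * x)) * y) := by rw [hxx]; group
    _ = x * (y * y) * x * (x * y) := by group
    _ = (x * x) * (x * y) := by rw [hyy]; group
    _ = x * y := by rw [hxx]; group
    _ = y * (y * (x * y) * x) * x := by
      have : y * (x * y) * x = 1 := by
        have e : y * (x * y) * x = x⁻¹ * (x * y * (x * y)) * x := by group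
        rw [e, h1]; group
      calc x * y = x * (y * y) * y * (x * x) := by rw [hxx, hyy]; group
        _ = x * (y * (y * (y * x))) * x := by group
        _ = x * (y * (1 * x)) * x := by rw [← mul_assoc y y x, hyy]
        _ = (x * y * (x * y)) * y⁻¹ * x := by group
        _ = y⁻¹ * x := by rw [h1]; group
        _ = y * (y⁻¹ * y⁻¹) * x := by group
        _ = y * (y * y)⁻¹ * x := by group
        _ = y * 1 * x := by rw [hyy]; group
        _ = y * (y * (x * y) * x) * x := by rw [this]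
    _ = y * x := by
      have : y * (x * y) * x = 1 := by
        have e : y * (x * y) * x = x⁻¹ * (x * y * (x * y)) * x := by group
        rw [e, h1]; group
      rw [this, mul_one]

theorem mem_of_comm {u : L} (hu : u ∈ R) (hut : u * (g * z * g⁻¹) = (g * z * g⁻¹) * u) : u ∈ X := by
  apply G.centric u hu
  intro x hx
  rcases h.comm u hu x (G.le hx) with h1 | h1
  · exact h1
  · exfalso
    have hu' : g⁻¹ * u * g ∈ R := by
      rw [h.cent]
      calc g⁻¹ * u * g * z = g⁻¹ * (u * (g * z * g⁻¹)) * g := by group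
        _ = g⁻¹ * ((g * z * g⁻¹) * u) * g := by rw [hut]
        _ = z * (g⁻¹ * u * g) := by group
    have hx' : g⁻¹ * x * g ∈ R := G.le (conj_mem' G.norm hx)
    rcases h.comm _ hu' _ hx' with h2 | h2
    · have h3 : u * x = x * u := by
        calc u * x = g * ((g⁻¹ * u * g) * (g⁻¹ * x * g)) * g⁻¹ := by group
          _ = g * ((g⁻¹ * x * g) * (g⁻¹ * u * g)) * g⁻¹ := by rw [h2]
          _ = x * u := by group
      rw [h3] at h1
      exact h.z1 (mul_eq_right.1 h1.symm)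
    · have h3 : u * x = (g * z * g⁻¹) * (x * u) := by
        calc u * x = g * ((g⁻¹ * u * g) * (g⁻¹ * x * g)) * g⁻¹ := by group
          _ = g * (z * ((g⁻¹ * x * g) * (g⁻¹ * u * g))) * g⁻¹ := by rw [h2]
          _ = (g * z * g⁻¹) * (x * u) := by group
      rw [h3] at h1
      exact G.move (mul_right_cancel h1)

/-- an element of `R` outside `X` -/
theorem exists_r : ∃ r ∈ R, r * (g * z * g⁻¹) ≠ (g * z * g⁻¹) * r := by
  by_contra hcon
  push Not at hcon
  exact G.move (h.not_cent g hcon)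

theorem r_move {r : L} (hr : r ∈ R) (hrt : r * (g * z * g⁻¹) ≠ (g * z * g⁻¹) * r) {n : L}
    (hn : n ∈ normalizer (X : Set L)) (hnz : n * z * n⁻¹ ≠ z) :
    r * (n * z * n⁻¹) * r⁻¹ = z * (n * z * n⁻¹) := by
  have hyX : n * z * n⁻¹ ∈ X := conj_mem hn (G.z_mem h)
  have htX := G.t_mem h
  rcases h.comm r hr _ (G.le hyX) with h1 | h1
  · exfalso
    apply hnz
    apply h.not_cent
    intro u hu
    rcases h.comm u hu _ (G.le htX) with h2 | h2
    · exact G.comm h (G.mem_of_comm h hu h2) hyX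
    · have hrt' : r * (g * z * g⁻¹) = z * ((g * z * g⁻¹) * r) :=
        (h.comm r hr _ (G.le htX)).resolve_left hrt
      set t := g * z * g⁻¹ with ht
      have hru : (r⁻¹ * u) * t = t * (r⁻¹ * u) := by
        have hzr : r * z = z * r := (h.cent r).1 hr
        have h3 : r * (t * (r⁻¹ * u)) = u * t := by
          calc r * (t * (r⁻¹ * u)) = (r * t) * r⁻¹ * u := by group
            _ = (z * (t * r)) * r⁻¹ * u := by rw [hrt']
            _ = z * (t * u) := by group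
            _ = u * t := h2.symm
        calc (r⁻¹ * u) * t = r⁻¹ * (u * t) := by group
          _ = r⁻¹ * (r * (t * (r⁻¹ * u))) := by rw [h3]
          _ = t * (r⁻¹ * u) := by group
      have h4 : r⁻¹ * u ∈ X := G.mem_of_comm h (R.mul_mem (R.inv_mem hr) hu) hru
      have h5 := G.comm h h4 hyX
      set y := n * z * n⁻¹ with hy
      calc u * y = r * ((r⁻¹ * u) * y) := by group
        _ = r * (y * (r⁻¹ * u)) := by rw [h5]
        _ = (r * y) * (r⁻¹ * u) := by group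
        _ = (y * r) * (r⁻¹ * u) := by rw [h1]
        _ = y * u := by group
  · rw [h1]; group

theorem R_norm {r : L} (hr : r ∈ R) : r ∈ normalizer (X : Set L) := by
  have key : ∀ r ∈ R, ∀ x ∈ X, r * x * r⁻¹ ∈ X := by
    intro r hr x hx
    rcases h.comm r hr x (G.le hx) with h1 | h1
    · rw [h1]; simpa using hx
    · rw [h1]
      have : z * (x * r) * r⁻¹ = z * x := by group
      rw [this]
      exact X.mul_mem (G.z_mem h) hx
  rw [Subgroup.mem_normalizer_iff]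
  intro x
  constructor
  · exact key r hr x
  · intro hx
    have := key r⁻¹ (R.inv_mem hr) _ hx
    have e : r⁻¹ * (r * x * r⁻¹) * r⁻¹⁻¹ = x := by group
    rwa [e] at this

theorem pair_move {r : L} (hr : r ∈ R) (hrt : r * (g * z * g⁻¹) ≠ (g * z * g⁻¹) * r) {m n : L}
    (hm : m ∈ normalizer (X : Set L)) (hn : n ∈ normalizer (X : Set L))
    (hne : m * z * m⁻¹ ≠ n * z * n⁻¹) :
    (m * r * m⁻¹) * (n * z * n⁻¹) * (m * r * m⁻¹)⁻¹ = (m * z * m⁻¹) * (n * z * n⁻¹) := by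
  have h1 : (m⁻¹ * n) * z * (m⁻¹ * n)⁻¹ ≠ z := by
    intro h2
    apply hne
    have : n * z * n⁻¹ = m * ((m⁻¹ * n) * z * (m⁻¹ * n)⁻¹) * m⁻¹ := by group
    rw [this, h2]
  have h2 := G.r_move h hr hrt (mul_mem (inv_mem hm) hn) h1
  calc (m * r * m⁻¹) * (n * z * n⁻¹) * (m * r * m⁻¹)⁻¹ =
      m * (r * ((m⁻¹ * n) * z * (m⁻¹ * n)⁻¹) * r⁻¹) * m⁻¹ := by group
    _ = m * (z * ((m⁻¹ * n) * z * (m⁻¹ * n)⁻¹)) * m⁻¹ := by rw [h2]
    _ = (m * z * m⁻¹) * (n * z * n⁻¹) := by group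

theorem orbit {n : L} (hn : n ∈ normalizer (X : Set L)) :
    n * z * n⁻¹ = z ∨ n * z * n⁻¹ = g * z * g⁻¹ ∨ n * z * n⁻¹ = z * (g * z * g⁻¹) := by
  obtain ⟨r, hr, hrt⟩ := G.exists_r h
  by_contra hcon
  push Not at hcon
  obtain ⟨h1, h2, h3⟩ := hcon
  have hp := G.pair_move h hr hrt G.norm hn h2.symm
  have hzX := G.z_mem h
  have htX := G.t_mem h
  have hwX := conj_mem hn hzX
  have hrt' := G.r_move h hr hrt G.norm G.move
  have hrw' := G.r_move h hr hrt hn h1
  have hgr : g * r * g⁻¹ ∈ normalizer (X : Set L) :=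
    mul_mem (mul_mem G.norm (G.R_norm h hr)) (inv_mem G.norm)
  have hk : (g * r * g⁻¹ * n) * z * (g * r * g⁻¹ * n)⁻¹ = (g * z * g⁻¹) * (n * z * n⁻¹) := by
    rw [← hp]; group
  have hkn : (g * r * g⁻¹ * n) * z * (g * r * g⁻¹ * n)⁻¹ ≠ z := by
    rw [hk]
    intro h4
    apply h3
    have htt := G.sq h htX
    calc n * z * n⁻¹ = ((g * z * g⁻¹) * (g * z * g⁻¹)) * (n * z * n⁻¹) := by rw [htt, one_mul]
      _ = (g * z * g⁻¹) * ((g * z * g⁻¹) * (n * z * n⁻¹)) := by rw [mul_assoc]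
      _ = (g * z * g⁻¹) * z := by rw [h4]
      _ = z * (g * z * g⁻¹) := G.comm h htX hzX
  have hrk := G.r_move h hr hrt (mul_mem hgr hn) hkn
  rw [hk] at hrk
  have h5 : r * ((g * z * g⁻¹) * (n * z * n⁻¹)) * r⁻¹ = (g * z * g⁻¹) * (n * z * n⁻¹) := by
    calc r * ((g * z * g⁻¹) * (n * z * n⁻¹)) * r⁻¹ =
        (r * (g * z * g⁻¹) * r⁻¹) * (r * (n * z * n⁻¹) * r⁻¹) := by group
      _ = (z * (g * z * g⁻¹)) * (z * (n * z * n⁻¹)) := by rw [hrt', hrw']
      _ = ((g * z * g⁻¹) * z) * (z * (n * z * n⁻¹)) := by rw [G.comm h htX hzX]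
      _ = (g * z * g⁻¹) * (z * z) * (n * z * n⁻¹) := by group
      _ = (g * z * g⁻¹) * (n * z * n⁻¹) := by rw [h.zz, mul_one]
  rw [h5] at hrk
  exact h.z1 (mul_eq_right.1 hrk.symm)

/-- the commutators `[X, N(X)]` lie in `⟨z, t⟩` -/
theorem comm_mem (H : Subgroup L) (hzH : z ∈ H) (htH : g * z * g⁻¹ ∈ H) {n : L}
    (hn : n ∈ normalizer (X : Set L)) {x : L} (hx : x ∈ X) : n * x * n⁻¹ * x⁻¹ ∈ H := by
  obtain ⟨r, hr, hrt⟩ := G.exists_r h
  have hzX := G.z_mem h
  have htX := G.t_mem h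
  have hrt' := G.r_move h hr hrt G.norm G.move
  -- the set of good elements
  let K : Set L := {n | n ∈ normalizer (X : Set L) ∧ ∀ x ∈ X, n * x * n⁻¹ * x⁻¹ ∈ H}
  have hKmul : ∀ a ∈ K, ∀ b ∈ K, a * b ∈ K := by
    rintro a ⟨ha, ha'⟩ b ⟨hb, hb'⟩
    refine ⟨mul_mem ha hb, fun x hx => ?_⟩
    have h1 := ha' _ (conj_mem hb hx)
    have h2 := hb' x hx
    have := H.mul_mem h1 h2
    have e : a * (b * x * b⁻¹) * a⁻¹ * (b * x * b⁻¹)⁻¹ * (b * x * b⁻¹ * x⁻¹) =
      a * b * x * (a * b)⁻¹ * x⁻¹ := by group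
    rwa [e] at this
  have hKinv : ∀ a ∈ K, a⁻¹ ∈ K := by
    rintro a ⟨ha, ha'⟩
    refine ⟨inv_mem ha, fun x hx => ?_⟩
    have h1 := ha' _ (conj_mem' ha hx)
    have := H.inv_mem h1
    have e : (a * (a⁻¹ * x * a) * a⁻¹ * (a⁻¹ * x * a)⁻¹)⁻¹ = a⁻¹ * x * a⁻¹⁻¹ * x⁻¹ := by group
    rwa [e] at this
  have hRcomm : ∀ u ∈ R, ∀ x ∈ X, u * x * u⁻¹ * x⁻¹ = 1 ∨ u * x * u⁻¹ * x⁻¹ = z := by
    intro u hu x hx
    rcases h.comm u hu x (G.le hx) with h1 | h1
    · left; rw [h1]; group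
    · right; rw [h1]; group
  have hKR : ∀ u ∈ R, u ∈ K := by
    intro u hu
    refine ⟨G.R_norm h hu, fun x hx => ?_⟩
    rcases hRcomm u hu x hx with h1 | h1
    · rw [h1]; exact H.one_mem
    · rw [h1]; exact hzH
  -- the element `m` with `m z m⁻¹ = z t` and `s = m r m⁻¹`
  obtain ⟨m, hm⟩ : ∃ m, m = r * g := ⟨_, rfl⟩
  have hmN : m ∈ normalizer (X : Set L) := by
    rw [hm]; exact mul_mem (G.R_norm h hr) G.norm
  have hmz : m * z * m⁻¹ = z * (g * z * g⁻¹) := by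
    rw [← hrt', hm]; group
  have hsK : m * r * m⁻¹ ∈ K := by
    refine ⟨mul_mem (mul_mem hmN (G.R_norm h hr)) (inv_mem hmN), fun x hx => ?_⟩
    have e : m * r * m⁻¹ * x * (m * r * m⁻¹)⁻¹ * x⁻¹ =
      m * (r * (m⁻¹ * x * m) * r⁻¹ * (m⁻¹ * x * m)⁻¹) * m⁻¹ := by group
    rw [e]
    rcases hRcomm r hr _ (conj_mem' hmN hx) with h1 | h1
    · rw [h1]; simp
    · rw [h1, hmz]; exact H.mul_mem hzH htH
  have hsz : (m * r * m⁻¹) * z * (m * r * m⁻¹)⁻¹ = g * z * g⁻¹ := by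
    have hne : m * z * m⁻¹ ≠ 1 * z * (1 : L)⁻¹ := by
      rw [hmz]
      intro h4
      have h5 : z * (g * z * g⁻¹) = z := by simpa using h4
      have h6 : g * z * g⁻¹ = 1 := mul_eq_left.1 h5
      apply h.z1
      have : z = g⁻¹ * (g * z * g⁻¹) * g := by group
      rw [this, h6]; group
    have := G.pair_move h hr hrt hmN (one_mem _) hne
    rw [hmz] at this
    simp only [one_mul, inv_one, mul_one] at this
    rw [this, mul_assoc, G.comm h htX hzX, ← mul_assoc, h.zz, one_mul]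
  suffices hnK : n ∈ K from hnK.2 x hx
  have ht_case : ∀ n ∈ normalizer (X : Set L), n * z * n⁻¹ = g * z * g⁻¹ → n ∈ K := by
    intro n hn h1
    have h2 : (m * r * m⁻¹)⁻¹ * n ∈ R := by
      rw [h.cent]
      have h3 : (m * r * m⁻¹)⁻¹ * (n * z * n⁻¹) * (m * r * m⁻¹) = z := by
        rw [h1, ← hsz]; group
      calc (m * r * m⁻¹)⁻¹ * n * z = ((m * r * m⁻¹)⁻¹ * (n * z * n⁻¹) * (m * r * m⁻¹)) *
            ((m * r * m⁻¹)⁻¹ * n) := by group
        _ = z * ((m * r * m⁻¹)⁻¹ * n) := by rw [h3]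
    have h3 := hKmul _ hsK _ (hKR _ h2)
    have e : m * r * m⁻¹ * ((m * r * m⁻¹)⁻¹ * n) = n := by group
    rwa [e] at h3
  rcases G.orbit h hn with h1 | h1 | h1
  · apply hKR
    rw [h.cent]
    calc n * z = (n * z * n⁻¹) * n := by group
      _ = z * n := by rw [h1]
  · exact ht_case n hn h1
  · have h2 : (r * n) * z * (r * n)⁻¹ = g * z * g⁻¹ := by
      calc (r * n) * z * (r * n)⁻¹ = r * (n * z * n⁻¹) * r⁻¹ := by group
        _ = r * (z * (g * z * g⁻¹)) * r⁻¹ := by rw [h1]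
        _ = (r * z) * (g * z * g⁻¹) * r⁻¹ := by group
        _ = (z * r) * (g * z * g⁻¹) * r⁻¹ := by rw [(h.cent r).1 hr]
        _ = z * (r * (g * z * g⁻¹) * r⁻¹) := by group
        _ = z * (z * (g * z * g⁻¹)) := by rw [hrt']
        _ = g * z * g⁻¹ := by rw [← mul_assoc, h.zz, one_mul]
    have h3 := ht_case (r * n) (mul_mem (G.R_norm h hr) hn) h2
    have h4 := hKmul _ (hKinv _ (hKR r hr)) _ h3
    have e : r⁻¹ * (r * n) = n := by group
    rwa [e] at h4

/-- if `t` and `t'` commute then `X = X'` -/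
theorem eq_of_comm {X' : Subgroup L} {g' : L} (G' : Good R z X' g')
    (hc : (g * z * g⁻¹) * (g' * z * g'⁻¹) = (g' * z * g'⁻¹) * (g * z * g⁻¹)) : X = X' := by
  have htX := G.t_mem h
  have htX' := G'.t_mem h
  have h1 : g * z * g⁻¹ ∈ X' := G'.mem_of_comm h (G.le htX) hc
  have h2 : g' * z * g'⁻¹ ∈ X := G.mem_of_comm h (G'.le htX') hc.symm
  apply le_antisymm
  · intro x hx
    exact G'.mem_of_comm h (G.le hx) (G.comm h hx h2)
  · intro x hx
    exact G.mem_of_comm h (G'.le hx) (G'.comm h hx h1)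

end Good

/-- among three good subgroups two coincide -/
theorem three {X₁ X₂ X₃ : Subgroup L} {g₁ g₂ g₃ : L} (G₁ : Good R z X₁ g₁) (G₂ : Good R z X₂ g₂)
    (G₃ : Good R z X₃ g₃) (h12 : X₁ ≠ X₂) : X₃ = X₁ ∨ X₃ = X₂ := by
  by_contra hcon
  push Not at hcon
  obtain ⟨h31, h32⟩ := hcon
  have c12 : (g₁ * z * g₁⁻¹) * (g₂ * z * g₂⁻¹) = z * ((g₂ * z * g₂⁻¹) * (g₁ * z * g₁⁻¹)) :=
    (h.comm _ (G₁.le (G₁.t_mem h)) _ (G₂.le (G₂.t_mem h))).resolve_left
      (fun hc => h12 (G₁.eq_of_comm h G₂ hc))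
  have c31 : (g₃ * z * g₃⁻¹) * (g₁ * z * g₁⁻¹) = z * ((g₁ * z * g₁⁻¹) * (g₃ * z * g₃⁻¹)) :=
    (h.comm _ (G₃.le (G₃.t_mem h)) _ (G₁.le (G₁.t_mem h))).resolve_left
      (fun hc => h31 (G₃.eq_of_comm h G₁ hc))
  have c32 : (g₃ * z * g₃⁻¹) * (g₂ * z * g₂⁻¹) = z * ((g₂ * z * g₂⁻¹) * (g₃ * z * g₃⁻¹)) :=
    (h.comm _ (G₃.le (G₃.t_mem h)) _ (G₂.le (G₂.t_mem h))).resolve_left
      (fun hc => h32 (G₃.eq_of_comm h G₂ hc))
  have s1 := G₁.sq h (G₁.t_mem h)
  have s2 := G₂.sq h (G₂.t_mem h)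
  have s3 := G₃.sq h (G₃.t_mem h)
  have m1 := G₁.le (G₁.t_mem h)
  have m2 := G₂.le (G₂.t_mem h)
  have m3 := G₃.le (G₃.t_mem h)
  have hm1 : ∀ u ∈ R, u * (g₁ * z * g₁⁻¹) = (g₁ * z * g₁⁻¹) * u → u ∈ X₁ := fun u hu =>
    G₁.mem_of_comm h hu
  generalize g₁ * z * g₁⁻¹ = a at *
  generalize g₂ * z * g₂⁻¹ = b at *
  generalize g₃ * z * g₃⁻¹ = c at *
  have za : a * z = z * a := (h.cent a).1 m1
  have zb : b * z = z * b := (h.cent b).1 m2
  have zc : c * z = z * c := (h.cent c).1 m3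
  have zz := h.zz
  have ba : b * a = z * (a * b) := by rw [c12, ← mul_assoc, zz, one_mul]
  have hu : (a * b * c) * a = a * (a * b * c) := by
    calc (a * b * c) * a = a * b * (c * a) := by group
      _ = a * b * (z * (a * c)) := by rw [c31]
      _ = a * (b * z) * (a * c) := by group
      _ = a * (z * b) * (a * c) := by rw [zb]
      _ = (a * z) * (b * a) * c := by group
      _ = (z * a) * (z * (a * b)) * c := by rw [za, ba]
      _ = z * (a * z) * (a * b) * c := by group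
      _ = z * (z * a) * (a * b) * c := by rw [za]
      _ = (z * z) * (a * (a * b * c)) := by group
      _ = a * (a * b * c) := by rw [zz, one_mul]
  have hmem := hm1 _ (R.mul_mem (R.mul_mem m1 m2) m3) hu
  have hsq := G₁.sq h hmem
  apply h.z1
  rw [← hsq]
  symm
  calc a * b * c * (a * b * c) = a * (a * b * c) * (b * c) := by
        rw [← hu]; group
    _ = (a * a) * b * (c * b) * c := by group
    _ = b * (z * (b * c)) * c := by rw [s1, c32]; group
    _ = (b * z) * b * (c * c) := by group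
    _ = (z * b) * b := by rw [s3, zb, mul_one]
    _ = z * (b * b) := by group
    _ = z := by rw [s2, mul_one]

end Cfsg.Agent.H824.SmallFrattini
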